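import Groth.Agent.PB46.Twist
import Groth.Agent.RB70.BundleVanish
import Groth.Agent.KRR40.PnTransfer

/-!
Charts of a projective bundle by relative projective spaces over small affine opens of the base.
-/

set_option autoImplicit false
set_option linter.style.haveILetI false
set_option backward.isDefEq.respectTransparency.types false
set_option synthInstance.maxHeartbeats 200000
set_option maxSynthPendingDepth 6

noncomputable section

universe u

open CategoryTheory CategoryTheory.Limits AlgebraicGeometry Opposite TopologicalSpace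

namespace Groth.Agent.PB46

variable {Y P : Scheme.{u}} {π : P ⟶ Y} {E : Y.Modules} {O1 : P.Modules}
  {q : (Scheme.Modules.pullback π).obj E ⟶ O1}

/-- Over a trivializing affine scheme a projective bundle is projective space. -/
theorem exists_cart {r : ℕ} (hE : FlatMod.IsFinLocFreeOfRank (r + 1) E)
    (hP : KRR.IsProjBundle π E O1 q) {A : Type u} [CommRing A] (ψ : Spec (CommRingCat.of A) ⟶ Y) {U : Y.Opens}
    (htop : ⊤ ≤ ψ ⁻¹ᵁ U) (iU : E.restrict U.ι ≅ FlatMod.freeMod (U : Scheme.{u}) (r + 1)) :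
    ∃ j : CohB1.ProjSpace r A ⟶ P, IsPullback j (CohB1.ProjSpace.toSpec r A) π ψ ∧
      Nonempty ((Scheme.Modules.pullback j).obj O1 ≅ Twist.twistProjSpace r A 1) := by
  have hq : Coh.IsQCoh E := Props58.LocFree.isQuasicoherent_of_isFinLocFree fun x => by
    obtain ⟨U, hx, h⟩ := hE x
    exact ⟨U, r + 1, hx, h⟩
  obtain ⟨𝒮, jS, hjS, P₀, p₀, chart, hP₀, O₀, lam, hO₀⟩ := EGAProj74.exists_projBundle hq
  obtain ⟨φ, hφ⟩ := EGAProj74.exists_canonical hq hjS hO₀ hP₀
  have hinv₀ : PicF.IsInvertible O₀ :=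
    EGAProj74.isInvertible_of_isGenDegOne hO₀ (EGAProj74.isGenDegOne_grSym hq hjS)
  have hG₀ : Grass.IsGrass p₀ E 1 O₀
      (((Scheme.Modules.pullbackPushforwardAdjunction p₀).homEquiv E O₀).symm φ) :=
    { rank := Mero90.isFinLocFreeOfRank_of_isInvertible hinv₀
      epi := EGAProj74.epi_canonical hq hjS hO₀ hφ
      univ := fun T g L hL s hs => by
        haveI := hs
        have h := EGAProj74.existsUnique_of_epi hq hjS hP₀ hO₀ hφ g L (Cyc90.Dev.isInvertible_of_rank_one hL) s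
        simpa only [Grass.quotBC, Category.assoc] using h }
  obtain ⟨e, he, hcomp, ⟨τ⟩⟩ := Cyc90.Dev.exists_iso_of_isGrass (Grass.IsGrass.of_isProjBundle hP) hG₀
  haveI := he
  haveI : E.IsQuasicoherent := hq
  have hq' : Coh.IsQCoh ((Scheme.Modules.pullback ψ).obj E) := QCPull72.isQuasicoherent_pullback ψ E
  obtain ⟨𝒮', j', hj', P', p', chart', hP', O1', lam', hO1'⟩ := EGAProj74.exists_projBundle hq'
  obtain ⟨g, hsq, ⟨σ⟩⟩ :=
    EGAProj74.exists_baseChange hq hjS hP₀ hO₀ hφ ψ 𝒮' j' hj' p' chart' hP' O1' lam' hO1'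
  let iW : ((Scheme.Modules.pullback ψ).obj E).restrict (ψ ⁻¹ᵁ U).ι ≅ FlatMod.freeMod ((ψ ⁻¹ᵁ U : _) : Scheme.{u}) (r + 1) :=
    ((Amp73.pullRestrictIso ψ U).app E).symm ≪≫
      (Scheme.Modules.pullback (ψ ∣_ U)).mapIso
        (((Scheme.Modules.restrictFunctorIsoPullback U.ι).app E).symm ≪≫ iU) ≪≫
      FrB.pullbackFreeIso (ψ ∣_ U) (r + 1)
  obtain ⟨d, hd, hdp, ⟨ρ⟩⟩ := Cyc90.Dev.exists_iso_projSpace_of_free hq' r htop iW hj' hP' hO1'
  haveI := hd
  refine ⟨d ≫ g ≫ inv e, ?_, ⟨?_⟩⟩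
  · refine IsPullback.of_iso hsq (asIso d).symm (asIso e).symm (Iso.refl _) (Iso.refl _) ?_ ?_ ?_ ?_
    · simp
    · simp [← hdp]
    · simp [← hcomp]
    · simp
  · exact ((Scheme.Modules.pullbackComp d (g ≫ inv e)).app O1).symm ≪≫
      (Scheme.Modules.pullback d).mapIso (((Scheme.Modules.pullbackComp g (inv e)).app O1).symm ≪≫
        (Scheme.Modules.pullback g).mapIso ((Scheme.Modules.pullback (inv e)).mapIso τ.symm ≪≫
          (Scheme.Modules.pullbackComp (inv e) e).app _ ≪≫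
          (Scheme.Modules.pullbackCongr (IsIso.inv_hom_id e)).app _ ≪≫
          (Scheme.Modules.pullbackId _).app _) ≪≫ σ) ≪≫ ρ

/-- The charts. -/
def HasCharts (n : ℕ) {T P : Scheme.{u}} (π : P ⟶ T) (O1 : P.Modules) : Prop :=
  ∀ (W : T.Opens) (y : T), y ∈ W → ∃ (V : T.Opens) (_ : IsAffineOpen V), y ∈ V ∧ V ≤ W ∧
    ∃ χ : KRR.PY n (V : Scheme.{u}) ⟶ P, IsPullback χ (KRR.pr n (V : Scheme.{u})) π V.ι ∧
      Nonempty ((Scheme.Modules.pullback χ).obj O1 ≅ Twist.twistOver n (V : Scheme.{u}) 1)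

theorem hasCharts {r : ℕ} (hE : FlatMod.IsFinLocFreeOfRank (r + 1) E)
    (hP : KRR.IsProjBundle π E O1 q) : HasCharts r π O1 := by
  intro W y hy
  obtain ⟨U, hyU, ⟨iU⟩⟩ := hE y
  obtain ⟨V, hV, hyV, hVle⟩ := exists_isAffineOpen_mem_and_subset (U := U ⊓ W) (x := y) ⟨hyU, hy⟩
  refine ⟨V, hV, hyV, fun z hz => (hVle hz).2, ?_⟩
  have ht : IsAffineOpen (⊤ : (V : Scheme.{u}).Opens) := haveI : IsAffine (V : Scheme.{u}) := hV; isAffineOpen_top _
  let c := ht.fromSpec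
  haveI : IsIso c := haveI : IsAffine (V : Scheme.{u}) := hV; by simp only [c, IsAffineOpen.fromSpec_top]; infer_instance
  obtain ⟨j, hj, ⟨σ⟩⟩ := exists_cart hE hP (A := Γ((V : Scheme.{u}), ⊤)) (c ≫ V.ι) (U := U)
    (fun x _ => (hVle (c x).2).1) iU
  let a := KRR40.affPn r (V : Scheme.{u}) ht
  have ha := KRR40.isPullback_affPn r (V : Scheme.{u}) ht
  haveI : IsIso a := ha.isIso_fst_of_isIso
  obtain ⟨τ⟩ := KRR40.nonempty_pullback_affPn_twist r (V : Scheme.{u}) ht 1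
  refine ⟨inv a ≫ j, ?_, ⟨?_⟩⟩
  · refine IsPullback.of_iso hj (@asIso _ _ _ _ a ‹IsIso a›) (Iso.refl _) (@asIso _ _ _ _ c ‹IsIso c›) (Iso.refl _) ?_ ?_ ?_ ?_
    · exact (IsIso.hom_inv_id_assoc a j).symm
    · exact ha.w.symm
    · simp
    · exact Category.comp_id _
  · exact ((Scheme.Modules.pullbackComp (inv a) j).app O1).symm ≪≫
      (Scheme.Modules.pullback (inv a)).mapIso (σ ≪≫ τ.symm) ≪≫
      (Scheme.Modules.pullbackComp (inv a) a).app _ ≪≫
      (Scheme.Modules.pullbackCongr (IsIso.inv_hom_id a)).app _ ≪≫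
      (Scheme.Modules.pullbackId _).app _

end Groth.Agent.PB46
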