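import Groth.Agent.PB46.Main

/-!
Freeness on the powers of the tautological class, in a model of the ring `K`.
-/

set_option autoImplicit false
set_option linter.style.haveILetI false
set_option backward.isDefEq.respectTransparency.types false
set_option maxSynthPendingDepth 6

noncomputable section

universe v u

open CategoryTheory CategoryTheory.Limits AlgebraicGeometry LambdaRing

namespace Groth.Agent.PB46

local notation "clv" => Kvb46.cl

variable {n : ℕ} {T : Scheme.{u}} {B : Bundle n T}

theorem Taut.bijective_pos [CompactSpace T] (τ : Taut B) :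
    Function.Bijective fun x : Fin (n + 1) → SGA6.Kvb T =>
      ∑ i : Fin (n + 1), TW B ((i : ℕ) : ℤ) (PL B (x i)) := by
  have h1 : Function.Bijective fun x : Fin (n + 1) → SGA6.Kvb T => x ∘ Fin.rev :=
    Function.Involutive.bijective fun x => funext fun i => by simp
  have h2 : Function.Bijective (TW B (n : ℤ)) :=
    Function.bijective_iff_has_inverse.2 ⟨TW B (-(n : ℤ)), fun x => by rw [TW_TW, neg_add_cancel, TW_zero],
      fun x => by rw [TW_TW, add_neg_cancel, TW_zero]⟩
  refine (congrArg Function.Bijective (funext fun x => ?_)).mp (h2.comp (τ.bijective_Φ.comp h1))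
  show TW B (n : ℤ) (Φ B (x ∘ Fin.rev)) = _
  rw [Φ_apply, map_sum]
  refine Fintype.sum_equiv Fin.revPerm _ _ fun i => ?_
  rw [TW_TW, Fin.revPerm_apply, Function.comp_apply]
  congr 2
  rw [Fin.val_rev]
  have := i.2
  omega

section Model

variable {KT KP : Type v} [CommRing KT] [CommRing KP] (φT : SGA6.Kvb T →+ KT) (φP : SGA6.Kvb B.P →+ KP)
  (g : KT →+ KP)

/-- In a model of `K`, the powers of the tautological class form a basis. -/
theorem Taut.bijective_model [CompactSpace T] (τ : Taut B) (hT : Function.Bijective φT) (hP : Function.Bijective φP)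
    (h1 : φP (clv (Coh.structureModule B.P)) = 1)
    (hmul : ∀ E F : B.P.Modules, FlatMod.IsFinLocFree E → FlatMod.IsFinLocFree F →
      φP (clv E) * φP (clv F) = φP (clv (CohB1.tensorMod E F)))
    (hg : ∀ N : T.Modules, FlatMod.IsFinLocFree N →
      g (φT (clv N)) = φP (clv ((Scheme.Modules.pullback B.π).obj N))) :
    Function.Bijective fun a : Fin (n + 1) → KT => ∑ i : Fin (n + 1), g (a i) * φP (clv B.O1) ^ (i : ℕ) := by
  have hO := KRR40.vb_of_rank τ.hO1
  have hpow : ∀ i : ℕ, FlatMod.IsFinLocFree (CohB1.tensorPow B.O1 i) ∧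
      φP (clv B.O1) ^ i = φP (clv (CohB1.tensorPow B.O1 i)) := by
    intro i
    induction i with
    | zero => exact ⟨Kvb46.isFinLocFree_structure, (pow_zero _).trans h1.symm⟩
    | succ i ih => exact ⟨Kvb46.isFinLocFree_tensor ih.1 hO, by rw [pow_succ, ih.2, hmul _ _ ih.1 hO]; rfl⟩
  have key : ∀ (i : ℕ) (x : SGA6.Kvb T), φP (TW B (i : ℤ) (PL B x)) = g (φT x) * φP (clv B.O1) ^ i := fun i x =>
    DFunLike.congr_fun (Kvb46.hom_ext_vb (g := φP.comp ((TW B (i : ℤ)).comp (PL B)))
      (g' := (AddMonoidHom.mulRight (φP (clv B.O1) ^ i)).comp (g.comp φT)) fun N hN => by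
        show φP (TW B (i : ℤ) (PL B (clv N))) = g (φT (clv N)) * φP (clv B.O1) ^ i
        have hp := KRR40.vb_pullback B.π hN
        rw [PL_cl hN, TW_cl _ hp, hg N hN, (hpow i).2, hmul _ _ hp (hpow i).1]
        exact congrArg φP (Kvb46.cl_iso (EGA73.tensIso (nonempty_oz_nat B.O1 B.Oi i).some (Iso.refl _) ≪≫
          EGA73.tensComm _ _) (flf_tw hp _))) x
  have hc : Function.Bijective fun x : Fin (n + 1) → SGA6.Kvb T => fun i => φT (x i) :=
    ⟨fun a b h => funext fun i => hT.1 (congrFun h i), fun c => by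
      choose a ha using fun i => hT.2 (c i)
      exact ⟨a, funext ha⟩⟩
  refine (Function.Bijective.of_comp_iff _ hc).1 ?_
  refine (congrArg Function.Bijective (funext fun x => ?_)).mp (hP.comp τ.bijective_pos)
  show φP (∑ i : Fin (n + 1), TW B ((i : ℕ) : ℤ) (PL B (x i))) = ∑ i : Fin (n + 1), g (φT (x i)) * _
  rw [map_sum]
  exact Finset.sum_congr rfl fun i _ => key i (x i)

end Model

end Groth.Agent.PB46
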