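import Groth.Agent.PB46.Bundle

/-!
Direct images and regularity on a projective bundle.
-/

set_option autoImplicit false
set_option linter.style.haveILetI false
set_option backward.isDefEq.respectTransparency.types false
set_option maxSynthPendingDepth 6

noncomputable section

universe u

open CategoryTheory CategoryTheory.Limits AlgebraicGeometry TopologicalSpace Opposite

namespace Groth.Agent.PB46

open Groth.Agent.KRR40

variable {n : ℕ} {T : Scheme.{u}} {B : Bundle n T}

/-- No higher direct images in non-negative twists. -/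
def Acy (B : Bundle n T) (F : B.P.Modules) : Prop := ∀ c : Chart B, KRR40.Acy n c.S (c.res.obj F)

/-- Regular modules. -/
def Reg (B : Bundle n T) (F : B.P.Modules) : Prop := ∀ c : Chart B, KRR.IsRegSheaf n c.S (c.res.obj F)

theorem Acy.of_iso {F G : B.P.Modules} (e : F ≅ G) (h : Acy B F) : Acy B G :=
  fun c => (h c).of_iso (c.res.mapIso e)

theorem acy_of_isZero {F : B.P.Modules} (h : IsZero F) : Acy B F :=
  fun c => KRR40.acy_of_isZero (c.res.map_isZero h)

theorem Acy.tw {F : B.P.Modules} (h : Acy B F) {e : ℤ} (he : 0 ≤ e) : Acy B (B.tw e F) :=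
  fun c => ((h c).twF he).of_iso (c.res_tw e F).some.symm

theorem acy_X₂ {S : ShortComplex B.P.Modules} (hS : S.ShortExact) (h₁ : Acy B S.X₁) (h₃ : Acy B S.X₃) :
    Acy B S.X₂ := fun c => KRR40.acy_X₂ (S := S.map c.res) (shortExact_pull c.χ hS) (h₁ c) (h₃ c)

theorem acy_X₃ {S : ShortComplex B.P.Modules} (hS : S.ShortExact) (h₁ : Acy B S.X₁) (h₂ : Acy B S.X₂) :
    Acy B S.X₃ := fun c => KRR40.acy_X₃ (S := S.map c.res) (shortExact_pull c.χ hS) (h₁ c) (h₂ c)

theorem van_tw_iff (c : Chart B) (F : B.P.Modules) {i : ℕ} {a b d : ℤ} (h : a + b = d) :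
    Van n c.S (c.res.obj (B.tw b F)) i a ↔ Van n c.S (c.res.obj F) i d :=
  ⟨fun hv => (van_twF_iff n c.S _ h).1 (van_congr n c.S (c.res_tw b F).some hv),
    fun hv => van_congr n c.S (c.res_tw b F).some.symm ((van_twF_iff n c.S _ h).2 hv)⟩

theorem acy_of_reg {F : B.P.Modules} (hF : Coh.IsQCoh F) (h : Reg B F) : Acy B F := fun c =>
  K0Proj46.acy_of_reg (haveI : F.IsQuasicoherent := hF; QCPull72.isQuasicoherent_pullback c.χ F) (h c)

/-- Large twists have no higher direct images. -/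
theorem exists_eventually [CompactSpace T] {F : B.P.Modules} (hF : FlatMod.IsFinLocFree F) :
    ∃ J : ℤ, ∀ d : ℤ, J ≤ d → ∀ c : Chart B, ∀ i : ℕ, 1 ≤ i → Van n c.S (c.res.obj F) i d := by
  classical
  choose ch hch _ using fun y : T => exists_chart B ⊤ (y := y) trivial
  obtain ⟨s, hs⟩ := isCompact_univ.elim_finite_subcover (fun y => ((ch y).V : Set T)) (fun y => (ch y).V.2)
    fun y _ => Set.mem_iUnion.2 ⟨y, hch y⟩
  choose J hJ using fun y => K0Proj46.exists_eventually (n := n) (vb_pullback (ch y).χ hF)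
  obtain ⟨N, hN⟩ : ∃ N : ℤ, ∀ y ∈ s, J y ≤ N := by
    obtain ⟨N, hN⟩ := (s.image J).bddAbove
    exact ⟨N, fun y hy => hN (Finset.mem_image_of_mem J hy)⟩
  refine ⟨N, fun d hd c i hi => ?_⟩
  have key := isZero_RF_of_cover (M := B.tw d F) (K0Proj46.isQCoh_of_flf (flf_tw hF d)) hi (fun y => ?_) c
  · exact key.of_iso ((RF (KRR.pr n c.S) i).mapIso (c.res_tw d F).some.symm)
  · obtain ⟨z, hz⟩ := Set.mem_iUnion.1 (hs (Set.mem_univ y))
    obtain ⟨hzs, hyz⟩ := Set.mem_iUnion.1 hz
    exact ⟨ch z, hyz, ((hJ z d ((hN z hzs).trans hd)).1 i hi).of_iso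
      ((RF (KRR.pr n (ch z).S) i).mapIso ((ch z).res_tw d F).some)⟩

theorem exists_reg [CompactSpace T] {F : B.P.Modules} (hF : FlatMod.IsFinLocFree F) :
    ∃ m : ℕ, ∀ d : ℤ, (m : ℤ) ≤ d → Reg B (B.tw d F) := by
  obtain ⟨J, hJ⟩ := exists_eventually hF
  refine ⟨(J + n + 1).toNat, fun d hd c i hi => ?_⟩
  show Van n c.S (c.res.obj (B.tw d F)) i (-(i : ℤ))
  rcases le_or_gt (n + 1) i with h | h
  · haveI : (KRR.twF n c.S (-(i : ℤ)) (c.res.obj (B.tw d F))).IsQuasicoherent :=
      isQCoh_twF n c.S _ (K0Proj46.isQCoh_of_flf (vb_pullback c.χ (flf_tw hF d))) _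
    exact isZero_RpushAb_gt n c.S _ i h
  · exact (van_tw_iff c F rfl).2 (hJ _ (by omega) c i hi)

theorem exists_acy [CompactSpace T] {F : B.P.Modules} (hF : FlatMod.IsFinLocFree F) :
    ∃ m : ℕ, ∀ d : ℤ, (m : ℤ) ≤ d → Acy B (B.tw d F) := by
  obtain ⟨m, hm⟩ := exists_reg hF
  exact ⟨m, fun d hd => acy_of_reg (K0Proj46.isQCoh_of_flf (flf_tw hF d)) (hm d hd)⟩

theorem mem_range_ι {c : Chart B} {y : T} (h : y ∈ c.V) : y ∈ Set.range c.V.ι := by
  rw [Scheme.Opens.range_ι]; exact h

/-- The direct image of an acyclic finite locally free module is finite locally free. -/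
theorem flf_push {F : B.P.Modules} (hF : FlatMod.IsFinLocFree F) (hA : Acy B F) :
    FlatMod.IsFinLocFree (B.push.obj F) :=
  flf_of_cover fun y => by
    obtain ⟨c, hy, -⟩ := exists_chart B ⊤ (y := y) trivial
    exact ⟨_, c.V.ι, inferInstance, mem_range_ι hy,
      Kvb46.isFinLocFree_iso (c.pushIso.app F).symm (K0Proj46.flf_push (vb_pullback c.χ hF) (hA c))⟩

theorem shortExact_push {S : ShortComplex B.P.Modules} (hS : S.ShortExact) (h₁ : Acy B S.X₁) :
    (S.map B.push).ShortExact := by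
  haveI : PreservesFiniteLimits B.push :=
    haveI := (Scheme.Modules.pullbackPushforwardAdjunction B.π).isRightAdjoint
    inferInstance
  haveI := hS.mono_f
  have hepi : Epi (B.push.map S.g) := epi_of_cover _ fun y => by
    obtain ⟨c, hy, -⟩ := exists_chart B ⊤ (y := y) trivial
    refine ⟨_, c.V.ι, inferInstance, mem_range_ι hy, ?_⟩
    have := (K0Proj46.shortExact_push (S := S.map c.res) (shortExact_pull c.χ hS) (h₁ c)).epi_g
    haveI : Epi ((c.res ⋙ Scheme.Modules.pushforward (KRR.pr n c.S)).map S.g) := this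
    show Epi ((B.push ⋙ Scheme.Modules.pullback c.V.ι).map S.g)
    rw [show (B.push ⋙ Scheme.Modules.pullback c.V.ι).map S.g = c.pushIso.hom.app S.X₂ ≫
      (c.res ⋙ Scheme.Modules.pushforward (KRR.pr n c.S)).map S.g ≫ c.pushIso.inv.app S.X₃ by
      rw [← c.pushIso.hom.naturality_assoc, Iso.hom_inv_id_app, Category.comp_id]]
    exact @epi_comp _ _ _ _ _ _ inferInstance _ (@epi_comp _ _ _ _ _ _ this _ inferInstance)
  exact { exact := hS.exact.map_of_mono_of_preservesKernel _ hS.mono_f inferInstance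
          mono_f := (inferInstance : Mono (B.push.map S.f))
          epi_g := hepi }

lemma bijective_app (c : Chart B) {W : T.Opens} (hW : W ≤ c.V) : Function.Bijective (B.π.app W) := by
  have hr : B.π ⁻¹ᵁ W ≤ c.χ.opensRange := by
    rw [c.opensRange_χ, Scheme.Opens.opensRange_ι]
    exact B.π.preimage_mono hW
  let W' := c.V.ι ⁻¹ᵁ W
  have hι : Function.Bijective (c.V.ι.app W) :=
    (ConcreteCategory.isIso_iff_bijective _).1
      (Scheme.Hom.isIso_app c.V.ι W (by rw [Scheme.Opens.opensRange_ι]; exact hW))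
  have hχ : Function.Bijective (c.χ.app (B.π ⁻¹ᵁ W)) :=
    (ConcreteCategory.isIso_iff_bijective _).1 (Scheme.Hom.isIso_app c.χ (B.π ⁻¹ᵁ W) hr)
  have h1 : Function.Bijective ((KRR.pr n c.S ≫ c.V.ι).app W) := by
    rw [Scheme.Hom.comp_app]
    exact (bijective_app_pr n W').comp hι
  have h2 : Function.Bijective ((c.χ ≫ B.π).app W) := by
    rw [Scheme.Hom.congr_app c.sq.w]
    generalize_proofs he
    have hm := ConcreteCategory.bijective_of_isIso ((KRR.PY n c.S).presheaf.map (eqToHom he).op)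
    convert hm.comp h1 using 1
    rfl
  rw [Scheme.Hom.comp_app] at h2
  exact (Function.Bijective.of_comp_iff' hχ _).1 h2

/-- The unit is an isomorphism at finite locally free modules. -/
theorem isIso_unit_vb (B : Bundle n T) {G : T.Modules} (hG : FlatMod.IsFinLocFree G) :
    IsIso ((Scheme.Modules.pullbackPushforwardAdjunction B.π).unit.app G) := by
  let p := B.π
  refine ValVan29.isIso_of_bijective_small _ fun y => ?_
  obtain ⟨U, k, s, hyU, hs⟩ := (Props58.LocFree.isFinLocFree_iff (M := G)).1 hG y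
  obtain ⟨c, hyc, hcU⟩ := exists_chart B U hyU
  refine ⟨c.V, hyc, fun V hVc => ?_⟩
  have hV : V ≤ U := hVc.trans hcU
  have hψ := hs.bijective hV
  refine (Function.Bijective.of_comp_iff _ hψ).1 ?_
  have hb := bijective_app c hVc
  have hχ : Function.Bijective fun a : Fin k → Γ(T, V) => fun i => p.app V (a i) :=
    ⟨fun a b hab => funext fun i => hb.1 (congrFun hab i), fun d => by
      choose a ha using fun i => hb.2 (d i)
      exact ⟨a, funext ha⟩⟩
  have hF := ((stalkBasis_pullS p hs).bijective (p.preimage_mono hV)).comp hχ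
  refine (Iff.of_eq (congrArg Function.Bijective (funext fun a => ?_))).mpr hF
  refine (map_sum (((Scheme.Modules.pullbackPushforwardAdjunction p).unit.app G).app V).hom _ _).trans
    (Finset.sum_congr rfl fun i _ => ?_)
  refine (Amp73.pullS_smul p G V (a i) _).trans ?_
  exact congrArg (p.app V (a i) • ·) (Amp73.res_pullS p G hV (s i)).symm

theorem acy_tw_pull {N : T.Modules} (hN : FlatMod.IsFinLocFree N) {e : ℤ} (he : -(n : ℤ) ≤ e) :
    Acy B (B.tw e ((Scheme.Modules.pullback B.π).obj N)) := fun c => by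
  obtain ⟨t⟩ := c.res_tw e ((Scheme.Modules.pullback B.π).obj N)
  refine KRR40.Acy.of_iso (t ≪≫ (DCoh.tensorBi.obj (Twist.twistOver n c.S e)).mapIso (c.pullIso N)).symm ?_
  exact K0Proj46.acy_twist_pullback (vb_pullback c.V.ι hN) he

theorem isZero_push_tw_pull {N : T.Modules} (hN : FlatMod.IsFinLocFree N) {e : ℤ} (he : -(n : ℤ) ≤ e) (he' : e < 0) :
    IsZero (B.push.obj (B.tw e ((Scheme.Modules.pullback B.π).obj N))) := by
  let L := Oz B.O1 B.Oi e
  have h : IsZero (B.push.obj L) := isZero_of_cover fun y => by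
    obtain ⟨c, hy, -⟩ := exists_chart B ⊤ (y := y) trivial
    refine ⟨_, c.V.ι, inferInstance, mem_range_ι hy, IsZero.of_iso ?_ (c.pushIso.app L)⟩
    obtain ⟨i, rfl⟩ : ∃ i : ℕ, e = -(i : ℤ) := ⟨(-e).toNat, by omega⟩
    let F₁ : B.P.Modules := B.tw (-(i : ℤ)) (Coh.structureModule B.P)
    let e₁ : L ≅ F₁ := (EGA73.tensUnitRight L).symm
    obtain ⟨e₂⟩ := c.res_tw (-(i : ℤ)) (Coh.structureModule B.P)
    let e₃ : KRR.twF n c.S (-(i : ℤ)) (c.res.obj (Coh.structureModule B.P)) ≅
        KRR.twF n c.S (-(i : ℤ)) (Coh.structureModule (KRR.PY n c.S)) :=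
      (DCoh.tensorBi.obj (Twist.twistOver n c.S (-(i : ℤ)))).mapIso (PicLoc.pullbackStructureIso c.χ)
    let e : c.res.obj L ≅ KRR.twF n c.S (-(i : ℤ)) (Coh.structureModule (KRR.PY n c.S)) :=
      c.res.mapIso e₁ ≪≫ e₂ ≪≫ e₃
    exact (isZero_push_twist_neg n c.S (i := i) (by omega) (by omega)).of_iso
      ((Scheme.Modules.pushforward (KRR.pr n c.S)).mapIso e)
  refine IsZero.of_iso ?_ (projIsoVB B.π L hN).symm
  exact (Functor.map_isZero (DCoh.tensorBi.obj N) h).of_iso (EGA73.tensComm _ _)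

end Groth.Agent.PB46
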