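import Groth.Agent.PB46.Local

/-!
Modules on a projective bundle, seen in its charts.
-/

set_option autoImplicit false
set_option linter.style.haveILetI false
set_option backward.isDefEq.respectTransparency.types false
set_option maxSynthPendingDepth 6

noncomputable section

universe u

open CategoryTheory CategoryTheory.Limits AlgebraicGeometry TopologicalSpace Opposite

namespace Groth.Agent.PB46

open Groth.Agent.KRR40

/-- A morphism with an invertible module and an inverse of it, locally a relative projective space. -/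
structure Bundle (n : ℕ) (T : Scheme.{u}) where
  P : Scheme.{u}
  π : P ⟶ T
  O1 : P.Modules
  Oi : P.Modules
  inv : ClSub.IsInverseOf Oi O1
  charts : HasCharts n π O1

/-- A chart. -/
structure Chart {n : ℕ} {T : Scheme.{u}} (B : Bundle n T) where
  V : T.Opens
  hV : IsAffineOpen V
  χ : KRR.PY n (V : Scheme.{u}) ⟶ B.P
  sq : IsPullback χ (KRR.pr n (V : Scheme.{u})) B.π V.ι
  o1 : Nonempty ((Scheme.Modules.pullback χ).obj B.O1 ≅ Twist.twistOver n (V : Scheme.{u}) 1)

variable {n : ℕ} {T : Scheme.{u}} {B : Bundle n T}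

/-- `F(d)`. -/
abbrev Bundle.tw (B : Bundle n T) (d : ℤ) (F : B.P.Modules) : B.P.Modules := twP B.O1 B.Oi d F

/-- The direct image. -/
abbrev Bundle.push (B : Bundle n T) : B.P.Modules ⥤ T.Modules := Scheme.Modules.pushforward B.π

theorem exists_chart (B : Bundle n T) (W : T.Opens) {y : T} (hy : y ∈ W) :
    ∃ c : Chart B, y ∈ c.V ∧ c.V ≤ W := by
  obtain ⟨V, hV, hyV, hVW, χ, sq, o1⟩ := B.charts W y hy
  exact ⟨⟨V, hV, χ, sq, o1⟩, hyV, hVW⟩

namespace Chart

variable (c : Chart B)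

/-- The base of the chart. -/
abbrev S : Scheme.{u} := (c.V : Scheme.{u})

instance isAffine_S : IsAffine c.S := c.hV

instance compactSpace_S : CompactSpace c.S := inferInstance

instance isOpenImmersion_χ : IsOpenImmersion c.χ :=
  MorphismProperty.of_isPullback (P := @IsOpenImmersion) c.sq.flip inferInstance

theorem opensRange_χ : c.χ.opensRange = B.π ⁻¹ᵁ c.V.ι.opensRange := by
  have h := IsOpenImmersion.image_preimage_eq_preimage_image_of_isPullback c.sq.flip ⊤
  rw [← Scheme.Hom.image_top_eq_opensRange, ← Scheme.Hom.image_top_eq_opensRange]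
  exact h

/-- Restriction to the chart. -/
abbrev res : B.P.Modules ⥤ (KRR.PY n c.S).Modules := Scheme.Modules.pullback c.χ

/-- Direct image and restriction. -/
def pushIso : B.push ⋙ Scheme.Modules.pullback c.V.ι ≅ c.res ⋙ Scheme.Modules.pushforward (KRR.pr n c.S) :=
  sqPullIso B.π (KRR.pr n c.S) c.χ c.V.ι c.sq.w.symm c.opensRange_χ

/-- Inverse image from the base and restriction. -/
def pullIso (N : T.Modules) : c.res.obj ((Scheme.Modules.pullback B.π).obj N) ≅
    (Scheme.Modules.pullback (KRR.pr n c.S)).obj ((Scheme.Modules.pullback c.V.ι).obj N) :=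
  (Scheme.Modules.pullbackComp c.χ B.π).app N ≪≫ (Scheme.Modules.pullbackCongr c.sq.w).app N ≪≫
    ((Scheme.Modules.pullbackComp (KRR.pr n c.S) c.V.ι).app N).symm

theorem res_tw (d : ℤ) (F : B.P.Modules) :
    Nonempty (c.res.obj (B.tw d F) ≅ KRR.twF n c.S d (c.res.obj F)) :=
  nonempty_pull_twP c.χ B.inv c.o1 d F

/-- Vanishing of cohomology over the preimages of the affine opens inside a chart. -/
theorem subsingleton_HE {M : B.P.Modules} (hM : Coh.IsQCoh M) {i : ℕ}
    (h : IsZero ((RF (KRR.pr n c.S) (i + 1)).obj (c.res.obj M))) {W : T.Opens} (hW : IsAffineOpen W)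
    (hWV : W ≤ c.V) : Subsingleton (Coh69.HE (Coh.toAb M) (i + 1) (B.π ⁻¹ᵁ W)) := by
  haveI : M.IsQuasicoherent := hM
  let e := (Scheme.Modules.restrictFunctorIsoPullback c.χ).app M
  haveI : ((c.res.obj M)).IsQuasicoherent := QCPull72.isQuasicoherent_pullback c.χ M
  haveI : (M.restrict c.χ).IsQuasicoherent :=
    (SheafOfModules.isQuasicoherent (KRR.PY n c.S).ringCatSheaf).prop_of_iso e.symm ‹_›
  have hW' : c.V.ι ''ᵁ (c.V.ι ⁻¹ᵁ W) = W := by
    rw [Scheme.Hom.image_preimage_eq_opensRange_inf, Scheme.Opens.opensRange_ι, inf_eq_right.2 hWV]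
  have hA : IsAffineOpen (c.V.ι ⁻¹ᵁ W) :=
    (Scheme.Hom.isAffineOpen_iff_of_isOpenImmersion c.V.ι).1 (by rw [hW']; exact hW)
  have h' := Serre69.subsingleton_HE_preimage (KRR.pr n c.S) (M.restrict c.χ) i
    (h.of_iso ((RF (KRR.pr n c.S) (i + 1)).mapIso e)) hA
  rw [FMK72.subsingleton_HE_restrict_iff,
    image_preimage_sq B.π (KRR.pr n c.S) c.χ c.V.ι c.sq.w.symm c.opensRange_χ, hW'] at h'
  exact h'

/-- Vanishing in a chart, from vanishing of cohomology over small affine opens. -/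
theorem isZero_RF {M : B.P.Modules} {i : ℕ}
    (h : ∀ y ∈ c.V, ∃ U : T.Opens, y ∈ U ∧ ∀ W : T.Opens, IsAffineOpen W → W ≤ U →
      Subsingleton (Coh69.HE (Coh.toAb M) i (B.π ⁻¹ᵁ W))) :
    IsZero ((RF (KRR.pr n c.S) i).obj (c.res.obj M)) := by
  refine IsZero.of_iso ?_ ((RF (KRR.pr n c.S) i).mapIso ((Scheme.Modules.restrictFunctorIsoPullback c.χ).app M).symm)
  refine Coh69.isZero_RpushAb_of_subsingleton _ _ _ fun U' y hy => ?_
  obtain ⟨U, hyU, hU⟩ := h (c.V.ι y) y.2
  obtain ⟨W, hW, hyW, hWle⟩ := exists_isAffineOpen_mem_and_subset (U := U ⊓ c.V.ι ''ᵁ U') (x := c.V.ι y)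
    ⟨hyU, ⟨y, hy, rfl⟩⟩
  refine ⟨c.V.ι ⁻¹ᵁ W, ?_, hyW, ?_⟩
  · exact (c.V.ι.preimage_mono fun z hz => (hWle hz).2).trans (Scheme.Hom.preimage_image_eq _ _).le
  · rw [FMK72.subsingleton_HE_restrict_iff,
      image_preimage_sq B.π (KRR.pr n c.S) c.χ c.V.ι c.sq.w.symm c.opensRange_χ,
      Scheme.Hom.image_preimage_eq_opensRange_inf, inf_eq_right.2 fun z hz => by obtain ⟨z', -, rfl⟩ := (hWle hz).2; exact ⟨z', rfl⟩]
    exact hU W hW fun z hz => (hWle hz).1

end Chart

/-- Vanishing in the charts of a cover gives vanishing in every chart. -/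
theorem isZero_RF_of_cover {M : B.P.Modules} (hM : Coh.IsQCoh M) {i : ℕ} (hi : 1 ≤ i)
    (h : ∀ y : T, ∃ c : Chart B, y ∈ c.V ∧ IsZero ((RF (KRR.pr n c.S) i).obj (c.res.obj M))) (c : Chart B) :
    IsZero ((RF (KRR.pr n c.S) i).obj (c.res.obj M)) := by
  obtain ⟨j, rfl⟩ : ∃ j, i = j + 1 := ⟨i - 1, by omega⟩
  refine c.isZero_RF fun y _ => ?_
  obtain ⟨c', hy, hc'⟩ := h y
  exact ⟨c'.V, hy, fun W hW hWV => c'.subsingleton_HE hM hc' hW hWV⟩

theorem exists_chart_mem (B : Bundle n T) (x : B.P) : ∃ c : Chart B, x ∈ Set.range c.χ := by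
  obtain ⟨c, hc, -⟩ := exists_chart B ⊤ (y := B.π x) trivial
  refine ⟨c, ?_⟩
  have : x ∈ c.χ.opensRange := by
    rw [c.opensRange_χ, Scheme.Opens.opensRange_ι]
    exact hc
  exact this

/-- Finite local freeness is checked in the charts. -/
theorem flf_of_charts {M : B.P.Modules} (h : ∀ c : Chart B, FlatMod.IsFinLocFree (c.res.obj M)) :
    FlatMod.IsFinLocFree M :=
  flf_of_cover fun x => by
    obtain ⟨c, hc⟩ := exists_chart_mem B x
    exact ⟨_, c.χ, inferInstance, hc, h c⟩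

theorem isZero_of_charts {M : B.P.Modules} (h : ∀ c : Chart B, IsZero (c.res.obj M)) : IsZero M :=
  isZero_of_cover fun x => by
    obtain ⟨c, hc⟩ := exists_chart_mem B x
    exact ⟨_, c.χ, inferInstance, hc, h c⟩

theorem epi_of_charts {M N : B.P.Modules} (φ : M ⟶ N) (h : ∀ c : Chart B, Epi (c.res.map φ)) : Epi φ :=
  epi_of_cover φ fun x => by
    obtain ⟨c, hc⟩ := exists_chart_mem B x
    exact ⟨_, c.χ, inferInstance, hc, h c⟩

theorem flf_oz (B : Bundle n T) (d : ℤ) : FlatMod.IsFinLocFree (Oz B.O1 B.Oi d) := by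
  refine flf_of_charts (B := B) fun c => ?_
  obtain ⟨e⟩ := c.res_tw d (Coh.structureModule B.P)
  refine Kvb46.isFinLocFree_iso (e.symm ≪≫ c.res.mapIso (EGA73.tensUnitRight _)) ?_
  exact K0Proj46.flf_twF n c.S (Kvb46.isFinLocFree_iso (PicLoc.pullbackStructureIso c.χ).symm
    Kvb46.isFinLocFree_structure) d

theorem flf_tw {F : B.P.Modules} (hF : FlatMod.IsFinLocFree F) (d : ℤ) : FlatMod.IsFinLocFree (B.tw d F) :=
  flf_of_charts fun c => Kvb46.isFinLocFree_iso (c.res_tw d F).some.symm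
    (K0Proj46.flf_twF n c.S (KRR40.vb_pullback c.χ hF) d)

theorem flat_stalk_of_flf {X : Scheme.{u}} {L : X.Modules} (hL : FlatMod.IsFinLocFree L) (x : X) :
    Module.Flat (X.presheaf.stalk x) (L.presheaf.stalk x) := by
  haveI := Props58.LocFree.free_stalk_of_isFinLocFree hL x
  infer_instance

theorem shortExact_tw {S : ShortComplex B.P.Modules} (hS : S.ShortExact) (d : ℤ) :
    (S.map (DCoh.tensorBi.obj (Oz B.O1 B.Oi d))).ShortExact :=
  KRR40.shortExact_tensor (flat_stalk_of_flf (flf_oz B d)) hS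

end Groth.Agent.PB46
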