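import Groth.Agent.PB46.SplitK

/-!
`K` of bundles on a quasi-compact scheme is a special λ-ring.
-/

set_option autoImplicit false
set_option backward.isDefEq.respectTransparency.types false
set_option linter.style.haveILetI false

noncomputable section

universe v u

open CategoryTheory CategoryTheory.Limits AlgebraicGeometry

namespace Groth.Agent.PB46.SplitK

open Groth.Agent.KRR40

attribute [local instance] kvbRing kvbLambda

variable {S : Scheme.{u}}

/-- The transport to a model. -/
theorem isSpecial_model [CompactSpace S]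
    (hext : ∀ (i : ℕ) (E : S.Modules), FlatMod.IsFinLocFree E →
      ∃ L : S.Modules, FlatMod.IsFinLocFree L ∧ ExtPow.IsExtPow i E L)
    (K : Type v) [CommRing K] [LambdaRing.LambdaOps K] (φ : SGA6.Kvb S →+ K) (hφ : Function.Bijective φ)
    (h1 : φ (KRR.cl S (Coh.structureModule S)) = 1)
    (hmul : ∀ E F : S.Modules, FlatMod.IsFinLocFree E → FlatMod.IsFinLocFree F →
      φ (KRR.cl S E) * φ (KRR.cl S F) = φ (KRR.cl S (((DCoh.tensorBi (X := S)).obj E).obj F)))
    (hlam : ∀ (i : ℕ) (E L : S.Modules), FlatMod.IsFinLocFree E → FlatMod.IsFinLocFree L →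
      ExtPow.IsExtPow i E L → LambdaRing.LambdaOps.lam i (φ (KRR.cl S E)) = φ (KRR.cl S L)) :
    LambdaRing.IsSpecial K := by
  let ψ : SGA6.Kvb S →+* K :=
    { toFun := φ
      map_one' := h1
      map_zero' := map_zero φ
      map_add' := map_add φ
      map_mul' := fun a b => by
        refine DFunLike.congr_fun (DFunLike.congr_fun (addHom_ext
          (g := AddMonoidHom.mk' (fun a => φ.comp (mulK a)) fun a b => by ext; simp)
          (g' := AddMonoidHom.mk' (fun a => (AddMonoidHom.mulLeft (φ a)).comp φ)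
            fun a b => by ext; simp [add_mul])
          fun E hE => addHom_ext fun F hF => ?_) a) b
        show φ (mulK (KRR.cl S E) (KRR.cl S F)) = φ (KRR.cl S E) * φ (KRR.cl S F)
        rw [mulK_cl hE hF, hmul E F hE hF]
        rfl }
  have hψ : ∀ (n : ℕ) (x : SGA6.Kvb S), ψ (LambdaRing.LambdaOps.lam n x) = LambdaRing.LambdaOps.lam n (ψ x) := by
    have h : ∀ x, x ∈ LamLine.comm ψ := fun x => by
      have := DFunLike.congr_fun (addHom_ext (g := QuotientAddGroup.mk' (LamLine.comm ψ)) (g' := 0)
        fun E hE => (QuotientAddGroup.eq_zero_iff _).2 fun i => ?_) x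
      · exact (QuotientAddGroup.eq_zero_iff _).1 this
      · show φ (lamK i (KRR.cl S E)) = LambdaRing.LambdaOps.lam i (φ (KRR.cl S E))
        obtain ⟨D, hD, hED⟩ := hext i E hE
        rw [lamK_cl i hE, lamCl_eq hE hED, hlam i E D hE hD hED]
    exact fun n x => h x n
  let e := RingEquiv.ofBijective ψ hφ
  refine LamLine.isSpecial_of_split (fun n hn => ?_) fun x y => ?_
  · rw [← map_one ψ, ← hψ, show LambdaRing.LambdaOps.lam n (1 : SGA6.Kvb S) = 0 from ln_cl line_structure n hn, map_zero]
  · obtain ⟨P, π, hP, hinj, hx⟩ := exists_split (e.symm x) S (𝟙 S)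
    haveI := hP
    obtain ⟨Q, ρ, hQ, hinj', hy⟩ := exists_split (e.symm y) P π
    refine ⟨SGA6.Kvb Q, kvbRing Q, kvbLambda Q, (pullRing (ρ ≫ π)).comp e.symm.toRingHom, lineMon Q, ?_, ?_,
      fun a ha => ln_of_mem ha, ?_, ?_⟩
    · intro a b h
      refine e.symm.injective (hinj (hinj' ?_))
      rw [pullK_comp, pullK_comp]
      exact h
    · intro n z
      obtain ⟨a, rfl⟩ := e.surjective z
      have h1 : LambdaRing.LambdaOps.lam n (e a) = e (LambdaRing.LambdaOps.lam n a) := (hψ n a).symm
      show pullRing (ρ ≫ π) (e.symm (LambdaRing.LambdaOps.lam n (e a))) =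
        LambdaRing.LambdaOps.lam n (pullRing (ρ ≫ π) (e.symm (e a)))
      rw [h1, e.symm_apply_apply, e.symm_apply_apply, pullRing_lam]
    · rw [pullK_id] at hx
      show pullK (ρ ≫ π) (e.symm x) ∈ LC Q
      rw [← pullK_comp]
      exact pullK_mem_LC ρ hx
    · show pullK (ρ ≫ π) (e.symm y) ∈ LC Q
      rw [← pullK_comp]
      exact hy

end Groth.Agent.PB46.SplitK
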