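import Groth.Agent.Lam38.UnivZ

/-!
A pre-λ-ring behaves as a special λ-ring on the combinations of line elements.
-/

set_option autoImplicit false

universe u v

namespace Groth.Agent.PB46.LamLine

open LambdaRing Groth.Agent.Lam38
open MvPolynomial (aeval X C)

section Gen

variable {A : Type u} [CommRing A] [LambdaOps A]

/-- A line element. -/
def Ln (a : A) : Prop := ∀ n, 2 ≤ n → LambdaOps.lam n a = 0

theorem lam_neg_succ' (x : A) (n : ℕ) : LambdaOps.lam (n + 1) (-x) =
    -∑ i ∈ Finset.range (n + 1), LambdaOps.lam (i + 1) x * LambdaOps.lam (n - i) (-x) := by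
  have h := LambdaOps.lam_add (n + 1) x (-x)
  rw [add_neg_cancel, lam_zero_of_two_le _ (by omega), Finset.sum_range_succ', LambdaOps.lam_zero, one_mul,
    Nat.sub_zero] at h
  rw [eq_neg_iff_add_eq_zero, add_comm]
  refine Eq.trans ?_ h.symm
  congr 1
  exact Finset.sum_congr rfl fun i _ => by rw [Nat.add_sub_add_right]

variable {B : Type v} [CommRing B] [LambdaOps B]

/-- The elements on which a ring map commutes with the λ-operations. -/
def comm (f : A →+* B) : AddSubgroup A where
  carrier := {x | ∀ n, f (LambdaOps.lam n x) = LambdaOps.lam n (f x)}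
  zero_mem' := fun n => by
    rcases n with _ | n
    · rw [LambdaOps.lam_zero, LambdaOps.lam_zero, map_one]
    · rw [map_zero, lam_zero_of_two_le _ (by omega), lam_zero_of_two_le _ (by omega), map_zero]
  add_mem' := fun {a b} ha hb n => by
    rw [LambdaOps.lam_add, map_add f a b, LambdaOps.lam_add, map_sum]
    exact Finset.sum_congr rfl fun i _ => by rw [map_mul, ha i, hb]
  neg_mem' := fun {a} ha n => by
    rw [map_neg]
    induction n using Nat.strong_induction_on with
    | _ n ih =>
      rcases n with _ | n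
      · rw [LambdaOps.lam_zero, LambdaOps.lam_zero, map_one]
      · rw [lam_neg_succ', lam_neg_succ', map_neg, map_sum]
        exact congrArg Neg.neg (Finset.sum_congr rfl fun i _ => by
          rw [map_mul, ha, ih (n - i) (by omega)])

theorem mem_comm_iff (f : A →+* B) (x : A) :
    x ∈ comm f ↔ ∀ n, f (LambdaOps.lam n x) = LambdaOps.lam n (f x) := Iff.rfl

/-- Line elements go to line elements, compatibly. -/
theorem mem_comm_of_ln (f : A →+* B) {x : A} (hx : Ln x) (hfx : Ln (f x)) : x ∈ comm f := fun n => by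
  rcases n with _ | _ | n
  · rw [LambdaOps.lam_zero, LambdaOps.lam_zero, map_one]
  · rw [LambdaOps.lam_one, LambdaOps.lam_one]
  · rw [hx _ (by omega), hfx _ (by omega), map_zero]

end Gen

/-- In a special λ-ring a product of two line elements is one. -/
theorem Ln.mul_of_special {A : Type u} [CommRing A] [LambdaOps A] (hA : IsSpecial A) {a b : A} (ha : Ln a)
    (hb : Ln b) : Ln (a * b) := by
  intro n hn
  obtain ⟨P, hP⟩ := Lambda37.exists_isMulPoly n
  let ψ : Fin n ⊕ Fin n → A := Sum.elim (fun k => if (k : ℕ) = 0 then a else 0) fun k => if (k : ℕ) = 0 then b else 0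
  have h := congrArg (aeval ψ) hP.1
  rw [map_aevalZ] at h
  have hes : ∀ (c : A) (v : Fin n → A), (∀ k, v k = if (k : ℕ) = 0 then c else 0) → Ln c → ∀ k : Fin n,
      aeval v (MvPolynomial.esymm (Fin n) ℤ ((k : ℕ) + 1)) = LambdaOps.lam ((k : ℕ) + 1) c := by
    intro c v hv hc k
    simp only [MvPolynomial.esymm, map_sum, map_prod, MvPolynomial.aeval_X]
    rcases Nat.eq_zero_or_pos (k : ℕ) with hk | hk
    · rw [hk, Finset.powersetCard_one, Finset.sum_map, LambdaOps.lam_one]
      simp only [Function.Embedding.coeFn_mk, Finset.prod_singleton, hv]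
      rw [Finset.sum_eq_single (⟨0, by omega⟩ : Fin n)]
      · simp
      · intro j _ hj
        exact if_neg fun h0 => hj (Fin.ext h0)
      · simp
    · rw [hc _ (by omega)]
      refine Finset.sum_eq_zero fun s hs => ?_
      obtain ⟨j, hj, hj'⟩ := Finset.exists_mem_ne (s := s) (by
        rw [(Finset.mem_powersetCard.mp hs).2]; omega) (⟨0, by omega⟩ : Fin n)
      exact Finset.prod_eq_zero hj (by rw [hv, if_neg fun h0 => hj' (Fin.ext h0)])
  have hL : (fun s => aeval ψ (Sum.elim (fun k : Fin n => MvPolynomial.rename Sum.inl (MvPolynomial.esymm (Fin n) ℤ ((k : ℕ) + 1)))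
      (fun k : Fin n => MvPolynomial.rename Sum.inr (MvPolynomial.esymm (Fin n) ℤ ((k : ℕ) + 1))) s)) =
      Sum.elim (fun k : Fin n => LambdaOps.lam ((k : ℕ) + 1) a) (fun k : Fin n => LambdaOps.lam ((k : ℕ) + 1) b) := by
    funext s
    rcases s with k | k
    · simp only [Sum.elim_inl, MvPolynomial.aeval_rename]
      exact hes a _ (fun j => rfl) ha k
    · simp only [Sum.elim_inr, MvPolynomial.aeval_rename]
      exact hes b _ (fun j => rfl) hb k
  rw [hL, ← hA.lam_mul n P hP a b] at h
  rw [h, LambdaRing.mulGen, map_mesymm, Multiset.map_map, Finset.esymm_map_val]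
  refine Finset.sum_eq_zero fun s hs => ?_
  obtain ⟨j, hj, hj'⟩ := Finset.exists_mem_ne (s := s) (by
    rw [(Finset.mem_powersetCard.mp hs).2]; omega) ((⟨0, by omega⟩ : Fin n), (⟨0, by omega⟩ : Fin n))
  refine Finset.prod_eq_zero hj ?_
  simp only [Function.comp_apply, map_mul, MvPolynomial.aeval_X, ψ, Sum.elim_inl, Sum.elim_inr]
  by_cases h1 : (j.1 : ℕ) = 0
  · rw [if_neg (c := (j.2 : ℕ) = 0) fun h2 => hj' (Prod.ext (Fin.ext h1) (Fin.ext h2)), mul_zero]
  · rw [if_neg h1, zero_mul]

section Universe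

variable {N : ℕ}

/-- One variable for each line. -/
abbrev D1 (N : ℕ) : Fin N → ℕ∞ := fun _ => 1

/-- The universal special λ-ring of `N` line elements. -/
abbrev U1 (N : ℕ) : Type := MvPolynomial (Var (D1 N)) ℤ

/-- A line of the universal ring. -/
noncomputable def uline (s : Fin N) : U1 N := 1 + gen (D := D1 N) ℤ s

theorem lam_gen (s : Fin N) (n : ℕ) :
    LambdaOps.lam (n + 1) (gen (D := D1 N) ℤ s) = (-1) ^ n * gen (D := D1 N) ℤ s := by
  induction n using Nat.strong_induction_on with
  | _ n ih =>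
    rcases n with _ | m
    · rw [LambdaOps.lam_one, pow_zero, one_mul]
    · rw [lam_succ_eq_gamma, gamma_genZ, c_eq_zero ℤ s (m + 1) (by simp [D1]), zero_sub,
        Finset.sum_congr rfl fun j hj => by rw [ih j (Finset.mem_range.mp hj)],
        ← Finset.sum_congr rfl fun j _ => mul_assoc _ _ _, ← Finset.sum_mul, ← neg_mul]
      congr 1
      have h := (Int.alternating_sum_range_choose (n := m + 1))
      rw [if_neg (Nat.succ_ne_zero m), Finset.sum_range_succ] at h
      have h' := congrArg (fun z : ℤ => (z : U1 N)) h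
      simp only [Int.cast_add, Int.cast_sum, Int.cast_mul, Int.cast_pow, Int.cast_neg, Int.cast_one, Int.cast_natCast,
        Int.cast_zero, Nat.choose_self, Nat.cast_one, mul_one] at h'
      rw [neg_eq_iff_add_eq_zero, ← h']
      congr 1
      exact Finset.sum_congr rfl fun j _ => mul_comm _ _

theorem ln_uline (s : Fin N) : Ln (uline s) := by
  intro n hn
  obtain ⟨m, rfl⟩ : ∃ m, n = m + 2 := ⟨n - 2, by omega⟩
  rw [uline, LambdaOps.lam_add, Finset.sum_range_succ', Finset.sum_range_succ', Finset.sum_eq_zero fun i hi => by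
    rw [isSpecialZ.lam_one_eq_zero _ (by omega), zero_mul]]
  simp only [zero_add, LambdaOps.lam_zero, LambdaOps.lam_one, one_mul, Nat.sub_zero,
    show m + 2 - 1 = m + 1 from rfl]
  rw [lam_gen, show m + 2 = (m + 1) + 1 from rfl, lam_gen, pow_succ]
  ring

theorem ln_one {A : Type u} [CommRing A] [LambdaOps A] (hA : IsSpecial A) : Ln (1 : A) := fun n hn =>
  hA.lam_one_eq_zero n hn

/-- Monomials in the lines. -/
noncomputable abbrev mono (N : ℕ) : Submonoid (U1 N) := Submonoid.closure (Set.range (uline (N := N)))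

theorem ln_mono {p : U1 N} (hp : p ∈ mono N) : Ln p := by
  induction hp using Submonoid.closure_induction with
  | mem x hx => obtain ⟨s, rfl⟩ := hx; exact ln_uline s
  | one => exact ln_one isSpecialZ
  | mul x y _ _ hx hy => exact Ln.mul_of_special isSpecialZ hx hy

/-- The monomials in the lines span. -/
theorem span_mono (p : U1 N) : p ∈ AddSubgroup.closure (mono N : Set (U1 N)) := by
  induction p using MvPolynomial.induction_on with
  | C a =>
    rw [eq_intCast, ← zsmul_one]
    exact AddSubgroup.zsmul_mem _ (AddSubgroup.subset_closure (one_mem _)) a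
  | add p q hp hq => exact AddSubgroup.add_mem _ hp hq
  | mul_X p w hp =>
    have hX : (X w : U1 N) = uline w.s - 1 := by
      rw [uline, add_sub_cancel_left, gen, ← c_var ℤ w]
      congr 1
      have := w.lt
      simp only [D1] at this
      have : w.j < 1 := by exact_mod_cast this
      omega
    rw [hX, mul_sub, mul_one]
    refine AddSubgroup.sub_mem _ ?_ hp
    induction hp using AddSubgroup.closure_induction with
    | mem x hx => exact AddSubgroup.subset_closure (mul_mem hx (Submonoid.subset_closure ⟨w.s, rfl⟩))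
    | zero => rw [zero_mul]; exact zero_mem _
    | add x y _ _ hx hy => rw [add_mul]; exact add_mem hx hy
    | neg x _ hx => rw [neg_mul]; exact neg_mem hx

variable {A : Type u} [CommRing A] [LambdaOps A]

/-- The evaluation at given lines. -/
noncomputable def evl (l : Fin N → A) : U1 N →+* A := (ev (D1 N) fun s => l s - 1).toRingHom

theorem evl_uline (l : Fin N → A) (s : Fin N) : evl l (uline s) = l s := by
  have h : gen (D := D1 N) ℤ s = X ⟨s, 0, by simp [D1]⟩ :=
    (show _ = _ from c_var ℤ (D := D1 N) ⟨s, 0, by simp [D1]⟩)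
  show ev (D1 N) _ (uline s) = l s
  rw [uline, map_add, map_one, h, ev, MvPolynomial.aeval_X]
  simp [gamma, Finset.sum_range_succ, LambdaOps.lam_one]

/-- Evaluation at lines whose products are lines commutes with the λ-operations. -/
theorem evl_lam {S : Submonoid A} (hS : ∀ a ∈ S, Ln a) {l : Fin N → A} (hl : ∀ s, l s ∈ S) (p : U1 N) (n : ℕ) :
    evl l (LambdaOps.lam n p) = LambdaOps.lam n (evl l p) := by
  have h : AddSubgroup.closure (mono N : Set (U1 N)) ≤ comm (evl l) := by
    rw [AddSubgroup.closure_le]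
    intro x hx
    refine mem_comm_of_ln _ (ln_mono hx) (hS _ ?_)
    have : mono N ≤ S.comap (evl l).toMonoidHom := by
      rw [Submonoid.closure_le]
      rintro _ ⟨s, rfl⟩
      show evl l (uline s) ∈ S
      rw [evl_uline]
      exact hl s
    exact this hx
  exact h (span_mono p) n

end Universe

section Main

variable {A : Type u} [CommRing A] [LambdaOps A] {S : Submonoid A}

omit [LambdaOps A] in
theorem exists_finset {x : A} (hx : x ∈ AddSubgroup.closure (S : Set A)) :
    ∃ t : Finset A, (↑t : Set A) ⊆ S ∧ x ∈ AddSubgroup.closure (↑t : Set A) := by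
  classical
  induction hx using AddSubgroup.closure_induction with
  | mem a ha => exact ⟨{a}, by simpa using ha, AddSubgroup.subset_closure (by simp)⟩
  | zero => exact ⟨∅, by simp, zero_mem _⟩
  | add a b _ _ ha hb =>
    obtain ⟨t, ht, ha⟩ := ha
    obtain ⟨t', ht', hb⟩ := hb
    refine ⟨t ∪ t', by simp [ht, ht'], add_mem (AddSubgroup.closure_mono ?_ ha) (AddSubgroup.closure_mono ?_ hb)⟩
    · simp
    · simp
  | neg a _ ha => obtain ⟨t, ht, ha⟩ := ha; exact ⟨t, ht, neg_mem ha⟩

/-- Two combinations of lines come from the universal ring. -/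
theorem exists_preimage {x y : A} (hx : x ∈ AddSubgroup.closure (S : Set A))
    (hy : y ∈ AddSubgroup.closure (S : Set A)) :
    ∃ (N : ℕ) (l : Fin N → A), (∀ s, l s ∈ S) ∧ (∃ p, evl l p = x) ∧ ∃ q, evl l q = y := by
  classical
  obtain ⟨t, ht, hx⟩ := exists_finset hx
  obtain ⟨t', ht', hy⟩ := exists_finset hy
  let T := t ∪ t'
  let e := T.equivFin
  refine ⟨T.card, fun i => ((e.symm i : T) : A), fun s => ?_, ?_, ?_⟩
  · rcases Finset.mem_union.mp (e.symm s).2 with h | h
    · exact ht h
    · exact ht' h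
  · have key : AddSubgroup.closure (↑t : Set A) ≤
        (evl fun i => ((e.symm i : T) : A)).range.toAddSubgroup := by
      rw [AddSubgroup.closure_le]
      intro a ha
      exact ⟨uline (e ⟨a, Finset.mem_union.mpr (Or.inl ha)⟩), by rw [evl_uline, Equiv.symm_apply_apply]⟩
    exact key hx
  · have key : AddSubgroup.closure (↑t' : Set A) ≤
        (evl fun i => ((e.symm i : T) : A)).range.toAddSubgroup := by
      rw [AddSubgroup.closure_le]
      intro a ha
      exact ⟨uline (e ⟨a, Finset.mem_union.mpr (Or.inr ha)⟩), by rw [evl_uline, Equiv.symm_apply_apply]⟩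
    exact key hy

theorem lam_mul_lines (hS : ∀ a ∈ S, Ln a) {x y : A} (hx : x ∈ AddSubgroup.closure (S : Set A))
    (hy : y ∈ AddSubgroup.closure (S : Set A)) {n : ℕ} {P : MvPolynomial (Fin n ⊕ Fin n) ℤ} (hP : IsMulPoly n P) :
    LambdaOps.lam n (x * y) =
      aeval (Sum.elim (fun k : Fin n => LambdaOps.lam ((k : ℕ) + 1) x)
        (fun k : Fin n => LambdaOps.lam ((k : ℕ) + 1) y)) P := by
  obtain ⟨N, l, hl, ⟨p, rfl⟩, ⟨q, rfl⟩⟩ := exists_preimage hx hy
  rw [← map_mul, ← evl_lam hS hl, isSpecialZ.lam_mul n P hP p q, map_aevalZ]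
  congr 2
  funext s
  rcases s with k | k <;> exact evl_lam hS hl _ _

theorem lam_lam_lines (hS : ∀ a ∈ S, Ln a) {x : A} (hx : x ∈ AddSubgroup.closure (S : Set A)) {i j : ℕ}
    {Q : MvPolynomial (Fin (i * j)) ℤ} (hQ : IsCompPoly i j Q) :
    LambdaOps.lam j (LambdaOps.lam i x) = aeval (fun k : Fin (i * j) => LambdaOps.lam ((k : ℕ) + 1) x) Q := by
  obtain ⟨N, l, hl, ⟨p, rfl⟩, -⟩ := exists_preimage hx hx
  rw [← evl_lam hS hl, ← evl_lam hS hl, isSpecialZ.lam_lam i j Q hQ p, map_aevalZ]
  congr 2
  exact funext fun k => evl_lam hS hl _ _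

/-- Specialness, from embeddings in rings spanned by lines. -/
theorem isSpecial_of_split {K : Type v} [CommRing K] [LambdaOps K] (h1 : ∀ n : ℕ, 2 ≤ n → LambdaOps.lam n (1 : K) = 0)
    (h : ∀ x y : K, ∃ (A : Type u) (_ : CommRing A) (_ : LambdaOps A) (f : K →+* A) (S : Submonoid A),
      Function.Injective f ∧ (∀ n z, f (LambdaOps.lam n z) = LambdaOps.lam n (f z)) ∧ (∀ a ∈ S, Ln a) ∧
        f x ∈ AddSubgroup.closure (S : Set A) ∧ f y ∈ AddSubgroup.closure (S : Set A)) :
    IsSpecial K := by
  refine ⟨h1, fun n P hP x y => ?_, fun i j Q hQ x => ?_⟩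
  · obtain ⟨A, _, _, f, S, hf, hlam, hS, hx, hy⟩ := h x y
    refine hf ?_
    rw [hlam, map_mul, lam_mul_lines hS hx hy hP, map_aevalZ]
    congr 2
    funext s
    rcases s with k | k <;> exact (hlam _ _).symm
  · obtain ⟨A, _, _, f, S, hf, hlam, hS, hx, -⟩ := h x x
    refine hf ?_
    rw [hlam, hlam, lam_lam_lines hS hx hQ, map_aevalZ]
    congr 2
    exact funext fun k => (hlam _ _).symm

end Main

end Groth.Agent.PB46.LamLine
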