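import Groth.Agent.Kvb46.Lambda
import Groth.Agent.FBase64.ExtPow.Exists
import Groth.Agent.Om3.ExtPowPull
import Groth.Agent.KRR40.LamPull

/-!
Ranks of exterior powers, and the exact sequences of exterior powers for an extension by a line bundle.
-/

set_option autoImplicit false
set_option backward.isDefEq.respectTransparency.types false
set_option linter.style.haveILetI false
set_option maxHeartbeats 1000000

noncomputable section

universe u

open CategoryTheory CategoryTheory.Limits AlgebraicGeometry TopologicalSpace Opposite exteriorPower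

namespace Groth.Agent.PB46

open QC70 Props58.LocFree

variable {X : Scheme.{u}}

theorem exists_basis_of_iso {M : X.Modules} {U : X.Opens} {k : ℕ}
    (i : M.restrict U.ι ≅ FlatMod.freeMod (U : Scheme.{u}) k) {W : X.Opens} (hW : W ≤ U) :
    Nonempty (Module.Basis (Fin k) Γ(X, W) Γ(M, W)) := by
  obtain ⟨s, hs⟩ := exists_stalkBasis_of_iso i
  refine ⟨Module.Basis.ofEquivFun (LinearEquiv.ofBijective
    (Fintype.linearCombination Γ(X, W) fun j => res M hW (s j)) ?_).symm⟩
  refine (congrArg Function.Bijective (funext fun a => ?_)).mp (hs.bijective hW)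
  simp [Fintype.linearCombination_apply]

/-- The rank of an exterior power. -/
theorem rank_extPow {E L : X.Modules} {r p : ℕ} (hE : FlatMod.IsFinLocFreeOfRank r E)
    (hL : ExtPow.IsExtPow p E L) : FlatMod.IsFinLocFreeOfRank (r.choose p) L := by
  intro x
  obtain ⟨U, hxU, ⟨i⟩⟩ := hE x
  obtain ⟨U', k, hxU', ⟨i'⟩⟩ := KRR40.vb_extPow (KRR40.vb_of_rank hE) hL x
  obtain ⟨W, hW, hxW, hle⟩ := exists_isAffineOpen_mem_and_subset (show x ∈ U ⊓ U' from ⟨hxU, hxU'⟩)
  obtain ⟨b⟩ := exists_basis_of_iso i (W := W) fun y hy => (hle hy).1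
  obtain ⟨b'⟩ := exists_basis_of_iso i' (W := W) fun y hy => (hle hy).2
  obtain ⟨φ, -⟩ := hL
  haveI : Nonempty W := ⟨⟨x, hxW⟩⟩
  haveI : Nontrivial Γ(X, W) := inferInstance
  let b'' := (b.exteriorPower p).map (φ ⟨W, hW⟩).symm
  have hk := Fintype.card_congr (b''.indexEquiv b')
  rw [Fintype.card_fin, ← Nat.card_eq_fintype_card, Set.powersetCard.card, Nat.card_eq_fintype_card,
    Fintype.card_fin] at hk
  exact ⟨U', hxU', ⟨i' ≪≫ eqToIso (congrArg (FlatMod.freeMod (U' : Scheme.{u})) hk.symm)⟩⟩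

/-- An exterior power beyond the rank is zero. -/
theorem isZero_extPow {E L : X.Modules} {r p : ℕ} (hE : FlatMod.IsFinLocFreeOfRank r E)
    (hL : ExtPow.IsExtPow p E L) (h : r < p) : IsZero L := by
  refine (IsZero.iff_id_eq_zero _).2 (Kvb46.eq_zero_of_fine (P := fun W : X.affineOpens =>
    ∃ k, k < p ∧ Nonempty (Module.Basis (Fin k) Γ(X, W.1) Γ(E, W.1))) ?_ fun W hW s => ?_)
  · intro x U hx
    obtain ⟨U₁, h₁, ⟨i⟩⟩ := hE x
    obtain ⟨W, hW, hxW, hle⟩ := exists_isAffineOpen_mem_and_subset (show x ∈ U ⊓ U₁ from ⟨hx, h₁⟩)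
    exact ⟨⟨W, hW⟩, ⟨r, h, exists_basis_of_iso i fun y hy => (hle hy).2⟩, hxW, fun y hy => (hle hy).1⟩
  · obtain ⟨k, hk, ⟨b⟩⟩ := hW
    obtain ⟨φ, -⟩ := hL
    haveI : IsEmpty (Set.powersetCard (Fin k) p) := ⟨fun a => by
      have h1 := a.1.card_le_univ
      have h2 : a.1.card = p := a.2
      simp only [Fintype.card_fin] at h1
      omega⟩
    haveI : Subsingleton Γ(L, W.1) := ((b.exteriorPower p).map (φ W).symm).repr.toEquiv.subsingleton
    exact Subsingleton.elim (α := Γ(L, W.1)) _ _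

section Seq

variable (S : ShortComplex X.Modules) [Fact S.ShortExact] [S.X₁.IsQuasicoherent]
  (A : Kvb46.Pow S.X₁) (B : Kvb46.Pow S.X₂) (D : Kvb46.Pow S.X₃) (hP : Kvb46.Fine (Kvb46.Chart S))

include hP in
theorem isIso_incl {p q n : ℕ} (h : (p + 1) + q = n) (h' : p + (q + 1) = n)
    (hz : IsZero (Kvb46.T A D p (q + 1))) : IsIso (Kvb46.incl S A B hP h h') :=
  (Kvb46.step_shortExact S A B D hP h h').isIso_f_iff.2 hz

include hP in
/-- For a quotient line bundle the filtration has two steps. -/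
theorem exists_seq_line (hD : ∀ j, 2 ≤ j → IsZero (D.L j)) (i : ℕ) :
    ∃ T : ShortComplex X.Modules, T.ShortExact ∧ Nonempty (T.X₁ ≅ CohB1.tensorMod (A.L (i + 1)) (D.L 0)) ∧
      Nonempty (T.X₂ ≅ B.L (i + 1)) ∧ Nonempty (T.X₃ ≅ CohB1.tensorMod (A.L i) (D.L 1)) := by
  have hs := Kvb46.step_shortExact S A B D hP (show (i + 1) + 0 = i + 1 by omega) (show i + (0 + 1) = i + 1 by omega)
  haveI := Kvb46.isIso_rho_zero S A B D hP (show (i + 1) + 0 = i + 1 by omega)
  have key : ∀ (k p q : ℕ) (h : p + q = i + 1), q = 1 + k →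
      Nonempty (Kvb46.I S A B (show i + (0 + 1) = i + 1 by omega) ≅ Kvb46.I S A B h) := by
    intro k
    induction k with
    | zero =>
      intro p q h hq
      obtain rfl : q = 0 + 1 := by omega
      obtain rfl : i = p := by omega
      exact ⟨Iso.refl _⟩
    | succ k ih =>
      intro p q h hq
      obtain ⟨q, rfl⟩ : ∃ q', q = q' + 1 := ⟨q - 1, by omega⟩
      have h1 : (p + 1) + q = i + 1 := by omega
      obtain ⟨e⟩ := ih (p + 1) q h1 (by omega)
      haveI := isIso_incl S A B D hP h1 h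
        ((DCoh.tensorBi.obj (A.L p)).map_isZero (hD (q + 1) (by omega)))
      exact ⟨e ≪≫ asIso (Kvb46.incl S A B hP h1 h)⟩
  obtain ⟨e⟩ := key i 0 (i + 1) (by omega) (by omega)
  haveI := Kvb46.isIso_ι_full S A B hP (show 0 + (i + 1) = i + 1 by omega)
  exact ⟨_, hs, ⟨asIso (Kvb46.rho S A B D hP (show (i + 1) + 0 = i + 1 by omega))⟩,
    ⟨e ≪≫ asIso (Abelian.image.ι (Kvb46.muM S A B (show 0 + (i + 1) = i + 1 by omega)))⟩, ⟨Iso.refl _⟩⟩

end Seq

end Groth.Agent.PB46
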