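import Groth.Agent.KRR40.Model
import Groth.Agent.KRR40.KvbRing
import Groth.Agent.KRR40.LamPull
import Groth.Agent.PB46.LamLine
import Groth.Agent.PB46.Rank
import Groth.Agent.Om3.ExtPowPull
import Groth.Agent.PerfFib24.LocusFree

/-!
Classes of bundles whose local ranks are at most one, and their inverse images.
-/

set_option autoImplicit false
set_option backward.isDefEq.respectTransparency.types false
set_option linter.style.haveILetI false

noncomputable section

universe u

open CategoryTheory CategoryTheory.Limits AlgebraicGeometry TopologicalSpace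

namespace Groth.Agent.PB46.SplitK

open Groth.Agent.KRR40

attribute [local instance] kvbRing kvbLambda

variable {X Y Z : Scheme.{u}}

/-- The rank on a trivialising open. -/
theorem rkAt_of_iso {M : X.Modules} {U : X.Opens} {k : ℕ}
    (i : M.restrict U.ι ≅ FlatMod.freeMod (U : Scheme.{u}) k) {y : X} (hy : y ∈ U) : rkAt y M = k := by
  obtain ⟨s, hs⟩ := Props58.LocFree.exists_stalkBasis_of_iso i
  let c : (Fin k → X.presheaf.stalk y) →ₗ[X.presheaf.stalk y] M.presheaf.stalk y :=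
    Fintype.linearCombination (X.presheaf.stalk y) fun j => QC70.germM M U y hy (s j)
  have hc : Function.Bijective c := by
    refine (congrArg Function.Bijective (funext fun a => ?_)).mp (hs y hy)
    simp [c, Fintype.linearCombination_apply, Props58.LocFree.germComb]
  rw [rkAt, ← (LinearEquiv.ofBijective c hc).finrank_eq, Module.finrank_fin_fun]

/-- A bundle with everywhere the same rank. -/
theorem ofRank_of_rkAt {M : X.Modules} (hM : FlatMod.IsFinLocFree M) {m : ℕ} (h : ∀ x, rkAt x M = m) :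
    FlatMod.IsFinLocFreeOfRank m M := fun x => by
  obtain ⟨U, k, hx, ⟨i⟩⟩ := hM x
  obtain rfl : k = m := (rkAt_of_iso i hx).symm.trans (h x)
  exact ⟨U, hx, ⟨i⟩⟩

/-- A bundle of local ranks at most one. -/
def Line (L : X.Modules) : Prop := FlatMod.IsFinLocFree L ∧ ∀ x, rkAt x L ≤ 1

theorem line_of_rank_one {L : X.Modules} (h : FlatMod.IsFinLocFreeOfRank 1 L) : Line L :=
  ⟨KRR40.vb_of_rank h, fun x => (rkAt_eq x h).le⟩

theorem line_structure : Line (Coh.structureModule X) :=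
  line_of_rank_one (Mero90.isFinLocFreeOfRank_of_isInvertible EGA73.isInvertible_structureModule)

theorem Line.tensor {L M : X.Modules} (hL : Line L) (hM : Line M) : Line (CohB1.tensorMod L M) :=
  ⟨KRR40.vbg_tensor hL.1 hM.1, fun x => by
    rw [rkAt_tensor x hL.1 hM.1]
    exact (Nat.mul_le_mul (hL.2 x) (hM.2 x)).trans (le_of_eq (one_mul 1))⟩

theorem Line.pullback (g : X ⟶ Y) {L : Y.Modules} (hL : Line L) : Line ((Scheme.Modules.pullback g).obj L) := by
  refine ⟨vb_pullback g hL.1, fun x => ?_⟩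
  obtain ⟨V, k, hxV, ⟨i⟩⟩ := hL.1 (g x)
  have hk : k ≤ 1 := (rkAt_of_iso i hxV).symm.le.trans (hL.2 _)
  refine le_trans (le_of_eq ?_) hk
  exact rkAt_of_iso (U := g ⁻¹ᵁ V) (((Amp73.pullRestrictIso g V).app L).symm ≪≫
      (Scheme.Modules.pullback (g ∣_ V)).mapIso
        (((Scheme.Modules.restrictFunctorIsoPullback V.ι).app L).symm ≪≫ i) ≪≫
      FrB.pullbackFreeIso (g ∣_ V) k) hxV

/-- Exterior powers beyond all local ranks vanish. -/
theorem isZero_extPow' {E L : X.Modules} (hE : FlatMod.IsFinLocFree E) {p : ℕ} (h : ∀ x, rkAt x E < p)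
    (hL : ExtPow.IsExtPow p E L) : IsZero L := by
  refine (IsZero.iff_id_eq_zero _).2 (Kvb46.eq_zero_of_fine (P := fun W : X.affineOpens =>
    ∃ k, k < p ∧ Nonempty (Module.Basis (Fin k) Γ(X, W.1) Γ(E, W.1))) ?_ fun W hW s => ?_)
  · intro x U hx
    obtain ⟨U₁, k, h₁, ⟨i⟩⟩ := hE x
    obtain ⟨W, hW, hxW, hle⟩ := exists_isAffineOpen_mem_and_subset (show x ∈ U ⊓ U₁ from ⟨hx, h₁⟩)
    exact ⟨⟨W, hW⟩, ⟨k, (rkAt_of_iso i h₁).symm.trans_lt (h x), exists_basis_of_iso i fun y hy => (hle hy).2⟩,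
      hxW, fun y hy => (hle hy).1⟩
  · obtain ⟨k, hk, ⟨b⟩⟩ := hW
    obtain ⟨φ, -⟩ := hL
    haveI : IsEmpty (Set.powersetCard (Fin k) p) := ⟨fun a => by
      have h1 := a.1.card_le_univ
      have h2 : a.1.card = p := a.2
      simp only [Fintype.card_fin] at h1
      omega⟩
    haveI : Subsingleton Γ(L, W.1) := ((b.exteriorPower p).map (φ W).symm).repr.toEquiv.subsingleton
    exact Subsingleton.elim (α := Γ(L, W.1)) _ _

theorem ln_cl {L : X.Modules} (hL : Line L) : LamLine.Ln (KRR.cl X L : SGA6.Kvb X) := fun n hn => by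
  obtain ⟨D, hD, hLD⟩ := exists_ext L hL.1 n
  show lamK n (KRR.cl X L) = 0
  rw [lamK_cl n hL.1, lamCl_eq hL.1 hLD]
  exact ExtFilt.clg_isZero (isZero_extPow' hL.1 (fun x => lt_of_le_of_lt (hL.2 x) hn) hLD)

/-- Classes of lines. -/
def lineMon (X : Scheme.{u}) : Submonoid (SGA6.Kvb X) where
  carrier := {a | ∃ L : X.Modules, Line L ∧ KRR.cl X L = a}
  one_mem' := ⟨_, line_structure, rfl⟩
  mul_mem' := by
    rintro _ _ ⟨L, hL, rfl⟩ ⟨M, hM, rfl⟩
    exact ⟨_, hL.tensor hM, (mulK_cl hL.1 hM.1).symm⟩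

theorem ln_of_mem {a : SGA6.Kvb X} (ha : a ∈ lineMon X) : LamLine.Ln a := by
  obtain ⟨L, hL, rfl⟩ := ha
  exact ln_cl hL

/-- Combinations of lines. -/
def LC (X : Scheme.{u}) : AddSubgroup (SGA6.Kvb X) := AddSubgroup.closure (lineMon X : Set (SGA6.Kvb X))

theorem cl_mem_LC {L : X.Modules} (hL : Line L) : (KRR.cl X L : SGA6.Kvb X) ∈ LC X :=
  AddSubgroup.subset_closure ⟨L, hL, rfl⟩

theorem pullK_id (x : SGA6.Kvb X) : pullK (𝟙 X) x = x :=
  DFunLike.congr_fun (KRR40.hom_ext_cl (g := pullK (𝟙 X)) (g' := AddMonoidHom.id _) fun E hE => by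
    rw [pullK_cl _ hE]
    exact KRR40.clg_iso ((Scheme.Modules.pullbackId X).app E) hE) x

theorem pullK_comp (f : X ⟶ Y) (g : Y ⟶ Z) (x : SGA6.Kvb Z) : pullK f (pullK g x) = pullK (f ≫ g) x :=
  DFunLike.congr_fun (KRR40.hom_ext_cl (g := (pullK f).comp (pullK g)) (g' := pullK (f ≫ g)) fun E hE => by
    show pullK f (pullK g (KRR.cl Z E)) = _
    rw [pullK_cl g hE, pullK_cl f (vb_pullback g hE), pullK_cl _ hE]
    exact KRR40.clg_iso ((Scheme.Modules.pullbackComp f g).app E) (vb_pullback _ hE)) x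

/-- Inverse image of classes, as a ring map. -/
def pullRing (g : X ⟶ Y) : SGA6.Kvb Y →+* SGA6.Kvb X where
  toFun := pullK g
  map_one' := by
    show pullK g (KRR.cl Y (Coh.structureModule Y)) = KRR.cl X (Coh.structureModule X)
    rw [pullK_cl g vb_str]
    exact KRR40.clg_iso (PicLoc.pullbackStructureIso g) vb_str
  map_zero' := map_zero _
  map_add' := map_add _
  map_mul' a b := by
    refine DFunLike.congr_fun (DFunLike.congr_fun (addHom_ext
      (g := AddMonoidHom.mk' (fun a => (pullK g).comp (mulK a)) fun a b => by ext; simp)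
      (g' := AddMonoidHom.mk' (fun a => (mulK (pullK g a)).comp (pullK g)) fun a b => by ext; simp)
      fun E hE => addHom_ext fun F hF => ?_) a) b
    show pullK g (mulK (KRR.cl Y E) (KRR.cl Y F)) = mulK (pullK g (KRR.cl Y E)) (pullK g (KRR.cl Y F))
    rw [mulK_cl hE hF, pullK_cl g (KRR40.vbg_tensor hE hF), pullK_cl g hE, pullK_cl g hF,
      mulK_cl (vb_pullback g hE) (vb_pullback g hF)]
    exact KRR40.clg_iso (TwTens96.pullTensIso g E F) (KRR40.vbg_tensor (vb_pullback g hE) (vb_pullback g hF))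

theorem pullRing_apply (g : X ⟶ Y) (x : SGA6.Kvb Y) : pullRing g x = pullK g x := rfl

theorem pullRing_lam (g : X ⟶ Y) (n : ℕ) (x : SGA6.Kvb Y) :
    pullRing g (LambdaRing.LambdaOps.lam n x) = LambdaRing.LambdaOps.lam n (pullRing g x) := by
  have h : ∀ x, x ∈ LamLine.comm (pullRing g) := fun x => by
    have := DFunLike.congr_fun (addHom_ext (g := (QuotientAddGroup.mk' (LamLine.comm (pullRing g)))) (g' := 0)
      fun E hE => (QuotientAddGroup.eq_zero_iff _).2 fun i => ?_) x
    · exact (QuotientAddGroup.eq_zero_iff _).1 this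
    · show pullK g (lamK i (KRR.cl Y E)) = lamK i (pullK g (KRR.cl Y E))
      obtain ⟨D, hD, hED⟩ := exists_ext E hE i
      haveI := Props58.LocFree.isQuasicoherent_of_isFinLocFree hE
      rw [lamK_cl i hE, lamCl_eq hE hED, pullK_cl g hD, pullK_cl g hE, lamK_cl i (vb_pullback g hE),
        lamCl_eq (vb_pullback g hE) (Om3.isExtPow_pullback g hED)]
  exact h x n

theorem pullK_mem_LC (g : X ⟶ Y) {x : SGA6.Kvb Y} (hx : x ∈ LC Y) : pullK g x ∈ LC X := by
  have h : LC Y ≤ (LC X).comap (pullK g) := by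
    rw [LC, AddSubgroup.closure_le]
    rintro _ ⟨L, hL, rfl⟩
    show pullK g (KRR.cl Y L) ∈ LC X
    rw [pullK_cl g hL.1]
    exact cl_mem_LC (hL.pullback g)
  exact h hx

end Groth.Agent.PB46.SplitK
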