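import Groth.Agent.GSS45.RelExt

/-!
Direct image and restriction in a cartesian square with open immersions.
-/

set_option autoImplicit false
set_option backward.isDefEq.respectTransparency false
set_option linter.style.haveILetI false

noncomputable section

universe u

open CategoryTheory Limits AlgebraicGeometry TopologicalSpace
open Groth.Agent.QC70

namespace Groth.Agent.PB46

variable {W' W Z' Z : Scheme.{u}} (s : W ⟶ Z) (s' : W' ⟶ Z') (a : W' ⟶ W) (b : Z' ⟶ Z)
  [IsOpenImmersion a] [IsOpenImmersion b] (hc : s' ≫ b = a ≫ s) (hr : a.opensRange = s ⁻¹ᵁ b.opensRange)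

include hc hr in
lemma image_preimage_sq (T : Z'.Opens) : a ''ᵁ (s' ⁻¹ᵁ T) = s ⁻¹ᵁ (b ''ᵁ T) := by
  have h : s' ⁻¹ᵁ T = a ⁻¹ᵁ (s ⁻¹ᵁ (b ''ᵁ T)) := by
    rw [← Scheme.Hom.comp_preimage, ← hc, Scheme.Hom.comp_preimage, Scheme.Hom.preimage_image_eq]
  rw [h, Scheme.Hom.image_preimage_eq_opensRange_inf, hr, ← Scheme.Hom.preimage_inf]
  congr 1
  exact inf_eq_right.2 (Scheme.Hom.image_le_opensRange b T)

include hc hr in
lemma appIso_sq (T : Z'.Opens) (r : Γ(Z', T)) :
    resO W (image_preimage_sq s s' a b hc hr T).le (s.app (b ''ᵁ T) ((b.appIso T).inv r)) =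
      (a.appIso (s' ⁻¹ᵁ T)).inv (s'.app T r) := by
  apply (ConcreteCategory.bijective_of_isIso (a.appIso (s' ⁻¹ᵁ T)).hom).1
  rw [← CommRingCat.comp_apply (a.appIso (s' ⁻¹ᵁ T)).inv, Iso.inv_hom_id, CommRingCat.id_apply]
  have h1 : s'.app T r = s'.app T ((b.appIso T).hom ((b.appIso T).inv r)) := by
    rw [← CommRingCat.comp_apply (b.appIso T).inv, Iso.inv_hom_id, CommRingCat.id_apply]
  rw [h1]
  generalize (b.appIso T).inv r = t
  simp only [resO, Scheme.Hom.appIso_hom', Scheme.Hom.app_eq_appLE, ← CommRingCat.comp_apply,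
    Scheme.Hom.map_appLE, Scheme.Hom.appLE_map, Scheme.Hom.appLE_comp_appLE, hc]

/-- Direct image commutes with restriction in a cartesian square, on objects. -/
def sqHom (M : W.Modules) :
    ((Scheme.Modules.pushforward s).obj M).restrict b ⟶ (Scheme.Modules.pushforward s').obj (M.restrict a) :=
  HomOn.toHom
    { app := fun T _ =>
        { toFun := fun x =>
            (show Γ(M, a ''ᵁ (s' ⁻¹ᵁ T)) from
              res M (image_preimage_sq s s' a b hc hr T).le (show Γ(M, s ⁻¹ᵁ (b ''ᵁ T)) from x))
          map_add' := fun x y => res_add _ _ _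
          map_smul' := fun r x => by
            let x' : Γ(M, s ⁻¹ᵁ (b ''ᵁ T)) := x
            change res M (image_preimage_sq s s' a b hc hr T).le (s.app (b ''ᵁ T) ((b.appIso T).inv r) • x') =
              (a.appIso _).inv (s'.app T r) • res M (image_preimage_sq s s' a b hc hr T).le x'
            rw [res_smul]
            exact congrArg (· • res M (image_preimage_sq s s' a b hc hr T).le x') (appIso_sq s s' a b hc hr T r) }
      app_res := fun {T T'} _ h x => by
        let x' : Γ(M, s ⁻¹ᵁ (b ''ᵁ T)) := x
        change res M (image_preimage_sq s s' a b hc hr T').le (res M (s.preimage_mono (b.image_mono h)) x') =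
          res M (a.image_mono (s'.preimage_mono h)) (res M (image_preimage_sq s s' a b hc hr T).le x')
        rw [res_res, res_res] }

instance isIso_sqHom (M : W.Modules) : IsIso (sqHom s s' a b hc hr M) := by
  rw [Scheme.Modules.Hom.isIso_iff_isIso_app]
  intro T
  exact (ConcreteCategory.isIso_iff_bijective _).2
    (GSS45.RelExt.bijective_res M (image_preimage_sq s s' a b hc hr T))

/-- Direct image commutes with restriction in a cartesian square. -/
def sqIso : Scheme.Modules.pushforward s ⋙ Scheme.Modules.restrictFunctor b ≅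
    Scheme.Modules.restrictFunctor a ⋙ Scheme.Modules.pushforward s' :=
  NatIso.ofComponents (fun M => asIso (sqHom s s' a b hc hr M)) fun {M N} φ =>
    Scheme.Modules.hom_ext _ _ fun T => by
      ext x
      exact (app_res φ _ _).symm

include hc hr in
/-- Direct image commutes with inverse image in a cartesian square of open immersions. -/
def sqPullIso : Scheme.Modules.pushforward s ⋙ Scheme.Modules.pullback b ≅
    Scheme.Modules.pullback a ⋙ Scheme.Modules.pushforward s' :=
  Functor.isoWhiskerLeft _ (Scheme.Modules.restrictFunctorIsoPullback b).symm ≪≫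
    sqIso s s' a b hc hr ≪≫ Functor.isoWhiskerRight (Scheme.Modules.restrictFunctorIsoPullback a) _

end Groth.Agent.PB46
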