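import Groth.Agent.PB46.Chart
import Groth.Agent.PB46.Square
import Groth.Agent.K0Proj46.Main
import Groth.Agent.QC70.CohOps

/-!
Local properties of modules, checked after inverse image to the members of an open cover.
-/

set_option autoImplicit false
set_option linter.style.haveILetI false
set_option backward.isDefEq.respectTransparency.types false
set_option maxSynthPendingDepth 6

noncomputable section

universe u

open CategoryTheory CategoryTheory.Limits AlgebraicGeometry TopologicalSpace Opposite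

namespace Groth.Agent.PB46

variable {X : Scheme.{u}}

instance preservesFiniteLimits_pull {U : Scheme.{u}} (j : U ⟶ X) [IsOpenImmersion j] :
    PreservesFiniteLimits (Scheme.Modules.pullback j) :=
  preservesFiniteLimits_of_natIso (Scheme.Modules.restrictFunctorIsoPullback j)

theorem shortExact_pull {U : Scheme.{u}} (j : U ⟶ X) [IsOpenImmersion j] {S : ShortComplex X.Modules}
    (hS : S.ShortExact) : (S.map (Scheme.Modules.pullback j)).ShortExact :=
  haveI : PreservesFiniteColimits (Scheme.Modules.pullback j) :=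
    haveI := (Scheme.Modules.pullbackPushforwardAdjunction j).isLeftAdjoint
    PreservesColimitsOfSize.preservesFiniteColimits _
  hS.map_of_exact _

theorem subsingleton_stalk {M : X.Modules} (hM : IsZero M) (x : X) :
    Subsingleton (M.presheaf.stalk x) := by
  refine subsingleton_of_forall_eq 0 fun e => ?_
  obtain ⟨T, hT, s, rfl⟩ := QC70.germM_exist e
  have h0 := congr((Scheme.Modules.Hom.app $(hM.eq_of_src (𝟙 _) 0) T) s)
  exact (congrArg (QC70.germM _ T _ hT) h0).trans (QC70.germM_zero hT)

/-- Being zero is local. -/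
theorem isZero_of_cover {M : X.Modules}
    (h : ∀ x : X, ∃ (U : Scheme.{u}) (j : U ⟶ X) (_ : IsOpenImmersion j),
      x ∈ Set.range j ∧ IsZero ((Scheme.Modules.pullback j).obj M)) : IsZero M := by
  refine QC70.isZero_of_support_eq_empty (Set.eq_empty_iff_forall_notMem.2 fun x => ?_)
  obtain ⟨U, j, hj, ⟨y, rfl⟩, hz⟩ := h x
  refine QC70.notMem_support_iff.2 ?_
  have hW : IsZero (M.restrict j) := hz.of_iso ((Scheme.Modules.restrictFunctorIsoPullback j).app M)
  have hb := ConcreteCategory.bijective_of_isIso ((Scheme.Modules.restrictStalkNatIso j y).hom.app M)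
  haveI : Subsingleton ((M.restrict j).presheaf.stalk y) := subsingleton_stalk hW y
  exact subsingleton_of_forall_eq ((Scheme.Modules.restrictStalkNatIso j y).hom.app M
    (0 : (M.restrict j).presheaf.stalk y)) fun z => by
    obtain ⟨z', rfl⟩ := hb.2 z
    exact congrArg _ (Subsingleton.elim (α := (M.restrict j).presheaf.stalk y) z' 0)

/-- Being an epimorphism is local. -/
theorem epi_of_cover {M N : X.Modules} (φ : M ⟶ N)
    (h : ∀ x : X, ∃ (U : Scheme.{u}) (j : U ⟶ X) (_ : IsOpenImmersion j),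
      x ∈ Set.range j ∧ Epi ((Scheme.Modules.pullback j).map φ)) : Epi φ := by
  refine Abelian.epi_of_cokernel_π_eq_zero φ ((isZero_of_cover fun x => ?_).eq_of_tgt _ _)
  obtain ⟨U, j, hj, hx, hepi⟩ := h x
  refine ⟨U, j, hj, hx, ?_⟩
  haveI := (Scheme.Modules.pullbackPushforwardAdjunction j).isLeftAdjoint
  haveI := hepi
  exact IsZero.of_iso (isZero_cokernel_of_epi _) (PreservesCokernel.iso (Scheme.Modules.pullback j) φ)

/-- Being finite locally free is local. -/
theorem flf_of_cover {M : X.Modules}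
    (h : ∀ x : X, ∃ (U : Scheme.{u}) (j : U ⟶ X) (_ : IsOpenImmersion j),
      x ∈ Set.range j ∧ FlatMod.IsFinLocFree ((Scheme.Modules.pullback j).obj M)) : FlatMod.IsFinLocFree M := by
  intro x
  obtain ⟨U, j, hj, ⟨y, rfl⟩, hU⟩ := h x
  obtain ⟨U', k, hy, ⟨e⟩⟩ := hU y
  let O := j ''ᵁ U'
  have hr : Set.range O.ι ⊆ Set.range (U'.ι ≫ j) := by
    rw [Scheme.Opens.range_ι]
    rintro _ ⟨z, hz, rfl⟩
    exact ⟨⟨z, hz⟩, rfl⟩
  let c := IsOpenImmersion.lift (U'.ι ≫ j) O.ι hr
  have hc : c ≫ U'.ι ≫ j = O.ι := IsOpenImmersion.lift_fac _ _ _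
  exact ⟨O, k, ⟨y, hy, rfl⟩, ⟨(Scheme.Modules.restrictFunctorIsoPullback O.ι).app M ≪≫
    ((Scheme.Modules.pullbackCongr hc).app M).symm ≪≫ ((Scheme.Modules.pullbackComp c (U'.ι ≫ j)).app M).symm ≪≫
    (Scheme.Modules.pullback c).mapIso (((Scheme.Modules.pullbackComp U'.ι j).app M).symm ≪≫
      ((Scheme.Modules.restrictFunctorIsoPullback U'.ι).app _).symm ≪≫ e) ≪≫ FrB.pullbackFreeIso c k⟩⟩

end Groth.Agent.PB46
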