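import Groth.Agent.PB46.Acy

/-!
The resolution of a regular finite locally free module on a projective bundle.
-/

set_option autoImplicit false
set_option linter.style.haveILetI false
set_option backward.isDefEq.respectTransparency.types false
set_option maxSynthPendingDepth 6

noncomputable section

universe u

open CategoryTheory CategoryTheory.Limits AlgebraicGeometry TopologicalSpace Opposite
open Groth.Agent.Var76.LineBundle Groth.Agent.Var76.ZeroScheme

namespace Groth.Agent.PB46

open Groth.Agent.KRR40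

section Span

variable {X Z : Scheme.{u}}

lemma span_res_iso {M N : X.Modules} (e : M ≅ N) {U V : X.Opens} (h : U ≤ V)
    (hs : Submodule.span Γ(X, U) (Set.range fun t : Γ(M, V) => res M h t) = ⊤) :
    Submodule.span Γ(X, U) (Set.range fun t : Γ(N, V) => res N h t) = ⊤ := by
  refine eq_top_iff.2 fun s _ => ?_
  have hm : e.inv.app U s ∈ Submodule.span Γ(X, U) (Set.range fun t : Γ(M, V) => res M h t) := by
    rw [hs]; trivial
  have key : ∀ m ∈ Submodule.span Γ(X, U) (Set.range fun t : Γ(M, V) => res M h t),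
      e.hom.app U m ∈ Submodule.span Γ(X, U) (Set.range fun t : Γ(N, V) => res N h t) := fun m hm => by
    induction hm using Submodule.span_induction with
    | mem x hx =>
      obtain ⟨t, rfl⟩ := hx
      exact Submodule.subset_span ⟨e.hom.app V t, (Mero90.app_res _ h t).symm⟩
    | zero => rw [map_zero]; exact Submodule.zero_mem _
    | add x y _ _ hx hy => rw [map_add]; exact Submodule.add_mem _ hx hy
    | smul a x _ hx => rw [Scheme.Modules.Hom.app_smul]; exact Submodule.smul_mem _ a hx
  have h2 := key _ hm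
  rwa [show e.hom.app U (e.inv.app U s) = s from
    ConcreteCategory.congr_hom (congrArg (fun a => Scheme.Modules.Hom.app a U) e.inv_hom_id) s] at h2

lemma span_res_restrict (χ : Z ⟶ X) [IsOpenImmersion χ] (M : X.Modules) {U V : Z.Opens} (h : U ≤ V)
    (hs : Submodule.span Γ(Z, U) (Set.range fun t : Γ(M.restrict χ, V) => res (M.restrict χ) h t) = ⊤)
    {V' : X.Opens} (hV : V' = χ ''ᵁ V) (hle : χ ''ᵁ U ≤ V') :
    Submodule.span Γ(X, χ ''ᵁ U) (Set.range fun t : Γ(M, V') => res M hle t) = ⊤ := by
  subst hV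
  refine eq_top_iff.2 fun s _ => ?_
  have hm : (show Γ(M.restrict χ, U) from s) ∈
      Submodule.span Γ(Z, U) (Set.range fun t : Γ(M.restrict χ, V) => res (M.restrict χ) h t) := by
    rw [hs]; trivial
  have key : ∀ m ∈ Submodule.span Γ(Z, U) (Set.range fun t : Γ(M.restrict χ, V) => res (M.restrict χ) h t),
      (show Γ(M, χ ''ᵁ U) from m) ∈ Submodule.span Γ(X, χ ''ᵁ U) (Set.range fun t : Γ(M, χ ''ᵁ V) => res M hle t) :=
    fun m hm => by
    induction hm using Submodule.span_induction with
    | mem x hx =>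
      obtain ⟨t, rfl⟩ := hx
      exact Submodule.subset_span ⟨t, rfl⟩
    | zero => exact Submodule.zero_mem _
    | add x y _ _ hx hy => exact Submodule.add_mem _ hx hy
    | smul a x _ hx => exact Submodule.smul_mem _ ((χ.appIso U).inv a) hx
  exact key _ hm

end Span

/-- Spanning by sections over the base in projective space over an affine base. -/
theorem exists_span {n : ℕ} {T : Scheme.{u}} [IsAffine T] {F : (KRR.PY n T).Modules} (hF : Coh.IsQCoh F)
    (hreg : KRR.IsRegSheaf n T F) (z : KRR.PY n T) :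
    ∃ (U : (KRR.PY n T).Opens) (hU : U ≤ KRR.pr n T ⁻¹ᵁ ⊤), z ∈ U ∧ IsAffineOpen U ∧
      Submodule.span Γ(KRR.PY n T, U) (Set.range fun t : Γ(F, KRR.pr n T ⁻¹ᵁ ⊤) => res F hU t) = ⊤ := by
  have hq : ∀ d, Coh.IsQCoh ((kdT n T F).G d) := fun d => Amp73.isQCoh_tensorMod hF (isQCoh_twistOver n T d)
  obtain ⟨l, hl⟩ := exists_mem_cOpen n T z
  have hV : IsAffineOpen (⊤ : T.Opens) := isAffineOpen_top _
  have h0 : spanRes (KRR.pr n T ⁻¹ᵁ ⊤) (K := kdT n T F) l 0 = ⊤ :=
    spanRes_zero_eq_top (ratioT n T F) hq (fun j => by rw [inf_comm]; exact isAffineOpen_cOpen n T j hV)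
      (isAffineOpen_cOpen_inf ⊤ hV) (surjective_dd_preimage hF ((rReg_zero_iff n T F).2 hreg) hV) l
  obtain ⟨e⟩ := nonempty_twF_zero n T F
  let e' : (kdT n T F).G 0 ≅ F := EGA73.tensComm _ _ ≪≫ e
  refine ⟨KRR.pr n T ⁻¹ᵁ ⊤ ⊓ cOpen n T l, inf_le_left, ⟨trivial, hl⟩, ?_, ?_⟩
  · rw [inf_comm]
    exact isAffineOpen_cOpen n T l hV
  · exact span_res_iso e' _ h0

variable {n : ℕ} {T : Scheme.{u}} {B : Bundle n T}

/-- The counit. -/
abbrev couB (B : Bundle n T) (F : B.P.Modules) :=
  (Scheme.Modules.pullbackPushforwardAdjunction B.π).counit.app F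

/-- A regular finite locally free module is generated by its direct image. -/
theorem epi_couB {F : B.P.Modules} (hF : FlatMod.IsFinLocFree F) (hreg : Reg B F) : Epi (couB B F) := by
  refine Amp73.epi_counit_of_span B.π (K0Proj46.isQCoh_of_flf hF) fun x => ?_
  obtain ⟨c, z, rfl⟩ := exists_chart_mem B x
  obtain ⟨U, hU, hz, hUa, hsp⟩ := exists_span (K0Proj46.isQCoh_of_flf (vb_pullback c.χ hF)) (hreg c) z
  have himg := image_preimage_sq B.π (KRR.pr n c.S) c.χ c.V.ι c.sq.w.symm c.opensRange_χ ⊤
  refine ⟨c.V.ι ''ᵁ ⊤, c.χ ''ᵁ U, (c.χ.image_mono hU).trans himg.le, ⟨z, hz, rfl⟩, hUa.image_of_isOpenImmersion c.χ, ?_⟩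
  exact span_res_restrict c.χ F hU
    (span_res_iso ((Scheme.Modules.restrictFunctorIsoPullback c.χ).app F).symm hU hsp) himg.symm _

theorem shortExact_couB {F : B.P.Modules} (hF : FlatMod.IsFinLocFree F) (hreg : Reg B F) :
    (ShortComplex.mk (kernel.ι (couB B F)) (couB B F) (kernel.condition _)).ShortExact :=
  haveI := epi_couB hF hreg
  Var76.Reg.KData.kernel_shortExact _

theorem flf_push_of_reg {F : B.P.Modules} (hF : FlatMod.IsFinLocFree F) (hreg : Reg B F) :
    FlatMod.IsFinLocFree (B.push.obj F) :=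
  flf_push hF (acy_of_reg (K0Proj46.isQCoh_of_flf hF) hreg)

theorem flf_kernel_couB {F : B.P.Modules} (hF : FlatMod.IsFinLocFree F) (hreg : Reg B F) :
    FlatMod.IsFinLocFree (kernel (couB B F)) :=
  K0Proj46.flf_X₁ (S := ShortComplex.mk (kernel.ι (couB B F)) (couB B F) (kernel.condition _))
    (shortExact_couB hF hreg) (vb_pullback B.π (flf_push_of_reg hF hreg)) hF

/-- The twisted kernel of the counit is regular. -/
theorem reg_kernel_couB {F : B.P.Modules} (hF : FlatMod.IsFinLocFree F) (hreg : Reg B F) :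
    Reg B (B.tw 1 (kernel (couB B F))) := by
  intro c
  let G := B.push.obj F
  let S₀ : ShortComplex B.P.Modules :=
    ShortComplex.mk (X₂ := (Scheme.Modules.pullback B.π).obj G) (X₃ := F)
      (kernel.ι (couB B F)) (couB B F) (kernel.condition _)
  let S : ShortComplex (KRR.PY n c.S).Modules := S₀.map c.res
  have hS : S.ShortExact := shortExact_pull c.χ (S := S₀) (shortExact_couB hF hreg)
  have hG : Coh.IsQCoh ((Scheme.Modules.pullback c.V.ι).obj G) :=
    K0Proj46.isQCoh_of_flf (vb_pullback c.V.ι (flf_push_of_reg hF hreg))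
  have h₂ : KRR.IsRegSheaf n c.S (KRR.twF n c.S 1 S.X₂) :=
    isRegSheaf_of_iso ((DCoh.tensorBi.obj (Twist.twistOver n c.S 1)).mapIso (c.pullIso G).symm)
      (isRegSheaf_twF_of_nonneg n c.S _ (isQCoh_pullPr hG) (isRegSheaf_pullback n c.S hG) zero_le_one)
  have h := (Scheme.Modules.pullbackPushforwardAdjunction B.π).right_triangle_components F
  haveI : Epi (B.push.map (couB B F)) := (IsSplitEpi.mk' ⟨_, h⟩).epi
  haveI : (Scheme.Modules.pullback c.V.ι).IsLeftAdjoint :=
    (Scheme.Modules.pullbackPushforwardAdjunction c.V.ι).isLeftAdjoint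
  have hepi : Epi ((c.res ⋙ Scheme.Modules.pushforward (KRR.pr n c.S)).map S₀.g) := by
    rw [show (c.res ⋙ Scheme.Modules.pushforward (KRR.pr n c.S)).map S₀.g = c.pushIso.inv.app S₀.X₂ ≫
      (Scheme.Modules.pullback c.V.ι).map (B.push.map (couB B F)) ≫ c.pushIso.hom.app S₀.X₃ by
      rw [show (Scheme.Modules.pullback c.V.ι).map (B.push.map (couB B F)) =
        (B.push ⋙ Scheme.Modules.pullback c.V.ι).map S₀.g from rfl,
        c.pushIso.hom.naturality, Iso.inv_hom_id_app_assoc]]
    exact @epi_comp _ _ _ _ _ _ inferInstance _ (@epi_comp _ _ _ _ _ _ inferInstance _ inferInstance)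
  exact isRegSheaf_of_iso (c.res_tw 1 _).some.symm (isRegSheaf_twF_X₁ n c.S (S := S) hS h₂ (hreg c) hepi)

/-- The direct image of the kernel of the counit is zero. -/
theorem isZero_push_kernel {F : B.P.Modules} (hF : FlatMod.IsFinLocFree F) (hreg : Reg B F) :
    IsZero (B.push.obj (kernel (couB B F))) := by
  let P := B.push
  have h := (Scheme.Modules.pullbackPushforwardAdjunction B.π).right_triangle_components F
  let η := (Scheme.Modules.pullbackPushforwardAdjunction B.π).unit.app (P.obj F)
  haveI : IsIso η := isIso_unit_vb B (flf_push_of_reg hF hreg)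
  have hiso : IsIso (P.map (couB B F)) := by
    rw [show P.map (couB B F) = inv η from IsIso.eq_inv_of_hom_inv_id h]
    infer_instance
  haveI : PreservesFiniteLimits P :=
    haveI := (Scheme.Modules.pullbackPushforwardAdjunction B.π).isRightAdjoint
    inferInstance
  haveI : Mono (P.map (kernel.ι (couB B F))) := inferInstance
  haveI : Functor.PreservesZeroMorphisms P := inferInstance
  refine IsZero.of_mono_eq_zero (P.map (kernel.ι (couB B F))) ?_
  rw [← cancel_mono (P.map (couB B F)), zero_comp, ← Functor.map_comp, kernel.condition, Functor.map_zero]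

variable (B) (F : B.P.Modules) (hF : FlatMod.IsFinLocFree F) (hreg : Reg B F)

/-- The stages of the resolution. -/
def stageB : ℕ → {M : B.P.Modules // FlatMod.IsFinLocFree M ∧ Reg B M}
  | 0 => ⟨F, hF, hreg⟩
  | i + 1 => ⟨B.tw 1 (kernel (couB B (stageB i).1)),
      flf_tw (flf_kernel_couB (stageB i).2.1 (stageB i).2.2) 1, reg_kernel_couB (stageB i).2.1 (stageB i).2.2⟩

theorem van_stageB : ∀ i : ℕ, i ≤ n + 1 → ∀ j : ℕ, j < i → ∀ c : Chart B,
    Van n c.S (c.res.obj (stageB B F hF hreg i).1) j (-1 - j)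
  | 0, _, j, h, _ => absurd h (by omega)
  | i + 1, hi, j, hj, c => by
    let M := (stageB B F hF hreg i).1
    have hM := (stageB B F hF hreg i).2
    let K := kernel (couB B M)
    change Van n c.S (c.res.obj (B.tw 1 K)) j (-1 - j)
    rw [van_tw_iff c K (d := -(j : ℤ)) (by omega)]
    rcases j with _ | k
    · obtain ⟨e⟩ := nonempty_twF_zero n c.S (c.res.obj K)
      have hz : IsZero ((Scheme.Modules.pushforward (KRR.pr n c.S)).obj (c.res.obj K)) :=
        IsZero.of_iso ((Scheme.Modules.pullback c.V.ι).map_isZero (isZero_push_kernel hM.1 hM.2)) (c.pushIso.app K).symm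
      have h0 : IsZero ((RF (KRR.pr n c.S) 0).obj (c.res.obj K)) :=
        haveI : PreservesFiniteLimits (Coh.pushAb (KRR.pr n c.S)) :=
          haveI : (Coh.pushAb (KRR.pr n c.S)).IsRightAdjoint :=
            (TopCat.Sheaf.pullbackPushforwardAdjunction AddCommGrpCat.{u} (KRR.pr n c.S).base).isRightAdjoint
          inferInstance
        ((abFun c.S).map_isZero hz).of_iso ((Coh.pushAb (KRR.pr n c.S)).rightDerivedZeroIsoSelf.app _)
      exact h0.of_iso ((RF (KRR.pr n c.S) 0).mapIso e)
    · obtain ⟨Δ⟩ := RD97.nonempty_derivedLES (Coh.pushAb (KRR.pr n c.S))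
      let S : ShortComplex (KRR.PY n c.S).Modules :=
        (ShortComplex.mk (kernel.ι (couB B M)) (couB B M) (kernel.condition _)).map c.res
      have hS := twSeq_shortExact n c.S (-((k + 1 : ℕ) : ℤ)) (S := S) (shortExact_pull c.χ (shortExact_couB hM.1 hM.2))
      refine (Δ.exact₁ _ hS k (k + 1) rfl).isZero_X₂ ?_ ?_
      · have h := van_stageB i (by omega) k (by omega) c
        rw [show -1 - (k : ℤ) = -((k + 1 : ℕ) : ℤ) by push_cast; ring] at h
        exact h.eq_of_src _ _
      · exact (van_congr n c.S (c.pullIso (B.push.obj M)).symm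
          (van_pullback n c.S (K0Proj46.isQCoh_of_flf (vb_pullback c.V.ι (flf_push_of_reg hM.1 hM.2)))
            (i := k + 1) (by omega) (d := -((k + 1 : ℕ) : ℤ)) (by omega))).eq_of_tgt _ _

theorem isZero_kernel_lastB : IsZero (kernel (couB B (stageB B F hF hreg n).1)) := by
  let M := kernel (couB B (stageB B F hF hreg n).1)
  have hs := (stageB B F hF hreg n).2
  have hM : FlatMod.IsFinLocFree M := flf_kernel_couB hs.1 hs.2
  have hr : Reg B M := fun c i hi => by
    rcases le_or_gt i n with h | h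
    · exact (van_tw_iff c M (a := -1 - (i : ℤ)) (b := 1) (by omega)).1
        (van_stageB B F hF hreg (n + 1) le_rfl i (by omega) c)
    · haveI : (KRR.twF n c.S (-(i : ℤ)) (c.res.obj M)).IsQuasicoherent :=
        isQCoh_twF n c.S _ (K0Proj46.isQCoh_of_flf (vb_pullback c.χ hM)) _
      exact isZero_RpushAb_gt n c.S _ i h
  haveI := epi_couB hM hr
  haveI := (Scheme.Modules.pullbackPushforwardAdjunction B.π).isLeftAdjoint
  exact IsZero.of_epi (couB B M)
    ((Scheme.Modules.pullback B.π).map_isZero (isZero_push_kernel hs.1 hs.2))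

theorem isZero_stageB : ∀ i : ℕ, n < i → IsZero (stageB B F hF hreg i).1
  | 0, h => absurd h (by omega)
  | i + 1, h => by
    refine (DCoh.tensorBi.obj (Oz B.O1 B.Oi 1)).map_isZero ?_
    rcases Nat.lt_or_eq_of_le (Nat.le_of_lt_succ h) with h' | h'
    · exact IsZero.of_mono (kernel.ι _) ((Scheme.Modules.pullback B.π).map_isZero
        (B.push.map_isZero (isZero_stageB i h')))
    · subst h'
      exact isZero_kernel_lastB B F hF hreg

end Groth.Agent.PB46
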