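import Groth.Agent.PB46.Push
import Groth.Agent.PB46.Stage
import Groth.Agent.KRR40.Taut

/-!
`K₀` of finite locally free modules on a projective bundle over a quasi-compact scheme.
-/

set_option autoImplicit false
set_option linter.style.haveILetI false
set_option backward.isDefEq.respectTransparency.types false
set_option maxSynthPendingDepth 6

noncomputable section

universe v u

open CategoryTheory CategoryTheory.Limits AlgebraicGeometry
open scoped ZeroObject

namespace Groth.Agent.PB46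

open Groth.Agent.KRR40

local notation "clv" => Kvb46.cl

variable {n : ℕ} {T : Scheme.{u}} {B : Bundle n T}

variable (B) in
/-- Twisting classes. -/
def TW (d : ℤ) : SGA6.Kvb B.P →+ SGA6.Kvb B.P := Kvb46.mulBy (Oz B.O1 B.Oi d) (flf_oz B d)

theorem TW_cl (d : ℤ) {F : B.P.Modules} (hF : FlatMod.IsFinLocFree F) : TW B d (clv F) = clv (B.tw d F) :=
  Kvb46.mulBy_cl _ hF

theorem TW_TW (a b : ℤ) (x : SGA6.Kvb B.P) : TW B a (TW B b x) = TW B (a + b) x :=
  DFunLike.congr_fun (Kvb46.hom_ext_vb (g := (TW B a).comp (TW B b)) (g' := TW B (a + b)) fun F hF => by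
    obtain ⟨e⟩ := nonempty_twP_twP B.inv a b F
    show TW B a (TW B b (clv F)) = _
    rw [TW_cl b hF, TW_cl a (flf_tw hF b), TW_cl (a + b) hF]
    exact Kvb46.cl_iso e (flf_tw (flf_tw hF b) a)) x

theorem TW_zero (x : SGA6.Kvb B.P) : TW B 0 x = x :=
  DFunLike.congr_fun (Kvb46.hom_ext_vb (g := TW B 0) (g' := AddMonoidHom.id _) fun F hF => by
    obtain ⟨e⟩ := nonempty_twP_zero B.O1 B.Oi F
    rw [TW_cl 0 hF]
    exact Kvb46.cl_iso e (flf_tw hF 0)) x

variable (B) in
/-- Inverse image of classes. -/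
def PL : SGA6.Kvb T →+ SGA6.Kvb B.P :=
  Kvb46.homVb (fun N => clv ((Scheme.Modules.pullback B.π).obj N)) fun _ hS h₁ h₂ h₃ =>
    Kvb46.cl_add _ (KRR40.shortExact_pullback B.π hS h₃) (vb_pullback _ h₁) (vb_pullback _ h₂) (vb_pullback _ h₃)

theorem PL_cl {N : T.Modules} (hN : FlatMod.IsFinLocFree N) :
    PL B (clv N) = clv ((Scheme.Modules.pullback B.π).obj N) :=
  Kvb46.homVb_cl _ _ hN

theorem PL_mulK (x y : SGA6.Kvb T) : PL B (Kvb46.mulK x y) = Kvb46.mulK (PL B x) (PL B y) := by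
  have h : ∀ N : T.Modules, FlatMod.IsFinLocFree N → ∀ y, PL B (Kvb46.mulK (clv N) y) = Kvb46.mulK (PL B (clv N)) (PL B y) :=
    fun N hN => DFunLike.congr_fun (Kvb46.hom_ext_vb (g := (PL B).comp (Kvb46.mulK (clv N)))
      (g' := (Kvb46.mulK (PL B (clv N))).comp (PL B)) fun M hM => by
        show PL B (Kvb46.mulK (clv N) (clv M)) = Kvb46.mulK (PL B (clv N)) (PL B (clv M))
        rw [Kvb46.mulK_cl hN hM, PL_cl (Kvb46.isFinLocFree_tensor hN hM), PL_cl hN, PL_cl hM,
          Kvb46.mulK_cl (vb_pullback B.π hN) (vb_pullback B.π hM)]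
        exact Kvb46.cl_iso (TwTens96.pullTensIso B.π N M) (vb_pullback B.π (Kvb46.isFinLocFree_tensor hN hM)))
  exact DFunLike.congr_fun (Kvb46.hom_ext_vb (g := (PL B).comp (Kvb46.mulK.flip y))
    (g' := (Kvb46.mulK.flip (PL B y)).comp (PL B)) fun N hN => h N hN y) x

theorem TW_eq_mulK (d : ℤ) (x : SGA6.Kvb B.P) : TW B d x = Kvb46.mulK (clv (Oz B.O1 B.Oi d)) x :=
  DFunLike.congr_fun (Kvb46.hom_ext_vb (g := TW B d) (g' := Kvb46.mulK (clv (Oz B.O1 B.Oi d))) fun F hF => by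
    rw [TW_cl d hF, Kvb46.mulK_cl (flf_oz B d) hF]
    rfl) x

theorem TW_PL_mul (d : ℤ) (a b : SGA6.Kvb T) :
    Kvb46.mulK (PL B a) (TW B d (PL B b)) = TW B d (PL B (Kvb46.mulK a b)) := by
  rw [TW_eq_mulK, TW_eq_mulK, PL_mulK, ← Kvb46.mulK_assoc, Kvb46.mulK_comm (PL B a), Kvb46.mulK_assoc]

variable (B) in
/-- The map from the free module. -/
def Φ : (Fin (n + 1) → SGA6.Kvb T) →+ SGA6.Kvb B.P :=
  ∑ i : Fin (n + 1), ((TW B (-(i : ℤ))).comp (PL B)).comp (Pi.evalAddMonoidHom (fun _ : Fin (n + 1) => SGA6.Kvb T) i)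

theorem Φ_apply (a : Fin (n + 1) → SGA6.Kvb T) :
    Φ B a = ∑ i : Fin (n + 1), TW B (-(i : ℤ)) (PL B (a i)) := by
  rw [Φ, AddMonoidHom.finsetSum_apply]
  rfl

theorem mem_range_gen {i : ℕ} (hi : i ≤ n) (a : SGA6.Kvb T) : TW B (-(i : ℤ)) (PL B a) ∈ (Φ B).range := by
  classical
  refine ⟨Pi.single ⟨i, by omega⟩ a, ?_⟩
  rw [Φ_apply, Finset.sum_eq_single (⟨i, by omega⟩ : Fin (n + 1))]
  · rw [Pi.single_eq_same]
  · intro j _ hj
    rw [Pi.single_eq_of_ne hj, map_zero, map_zero]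
  · exact fun h => absurd (Finset.mem_univ _) h

theorem mul_mem_range (a : SGA6.Kvb T) {x : SGA6.Kvb B.P} (hx : x ∈ (Φ B).range) :
    Kvb46.mulK (PL B a) x ∈ (Φ B).range := by
  obtain ⟨b, rfl⟩ := hx
  rw [Φ_apply, map_sum]
  exact sum_mem fun i _ => by
    rw [TW_PL_mul]
    exact mem_range_gen (by have := i.2; omega) _

section Reg

variable {F : B.P.Modules} (hF : FlatMod.IsFinLocFree F) (hreg : Reg B F)

theorem mem_range_stage : ∀ (k i : ℕ), n + 1 ≤ i + k →
    clv (B.tw (-(i : ℤ)) (stageB B F hF hreg i).1) ∈ (Φ B).range := by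
  intro k
  induction k with
  | zero =>
    intro i hi
    have h0 : clv (B.tw (-(i : ℤ)) (stageB B F hF hreg i).1) = 0 :=
      K0Proj46.cl_isZero (Functor.map_isZero (DCoh.tensorBi.obj (Oz B.O1 B.Oi (-(i : ℤ))))
        (isZero_stageB B F hF hreg i (by omega)))
    rw [h0]
    exact zero_mem _
  | succ k ih =>
    intro i hi
    rcases le_or_gt i n with hin | hin
    swap
    · exact ih i (by omega)
    let M := (stageB B F hF hreg i).1
    have hs := (stageB B F hF hreg i).2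
    have hpush := flf_push_of_reg hs.1 hs.2
    have hQ : FlatMod.IsFinLocFree ((Scheme.Modules.pullback B.π).obj (B.push.obj M)) := vb_pullback _ hpush
    have hK := flf_kernel_couB hs.1 hs.2
    let S : ShortComplex B.P.Modules :=
      ShortComplex.mk (X₂ := (Scheme.Modules.pullback B.π).obj (B.push.obj M)) (X₃ := M)
        (kernel.ι (couB B M)) (couB B M) (kernel.condition _)
    have hS : S.ShortExact := shortExact_couB hs.1 hs.2
    have h : clv (B.tw (-(i : ℤ)) ((Scheme.Modules.pullback B.π).obj (B.push.obj M))) =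
        clv (B.tw (-(i : ℤ)) (kernel (couB B M))) + clv (B.tw (-(i : ℤ)) M) :=
      Kvb46.cl_add (S.map (DCoh.tensorBi.obj (Oz B.O1 B.Oi (-(i : ℤ))))) (shortExact_tw hS _) (flf_tw hK _)
        (flf_tw hQ _) (flf_tw hs.1 _)
    rw [eq_sub_of_add_eq' h.symm]
    refine sub_mem ?_ ?_
    · rw [← TW_cl _ hQ, ← PL_cl hpush]
      exact mem_range_gen hin _
    · obtain ⟨e⟩ := nonempty_twP_twP B.inv (-((i + 1 : ℕ) : ℤ)) 1 (kernel (couB B M))
      have h2 := ih (i + 1) (by omega)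
      change clv (B.tw (-((i + 1 : ℕ) : ℤ)) (B.tw 1 (kernel (couB B M)))) ∈ _ at h2
      rw [Kvb46.cl_iso e (flf_tw (flf_tw hK 1) _),
        show -((i + 1 : ℕ) : ℤ) + 1 = -(i : ℤ) by push_cast; ring] at h2
      exact h2

include hF hreg in
theorem mem_range_of_reg : clv F ∈ (Φ B).range := by
  have h := mem_range_stage hF hreg (n + 1) 0 (by omega)
  obtain ⟨e⟩ := nonempty_twP_zero B.O1 B.Oi F
  rw [← Kvb46.cl_iso e (flf_tw hF 0)]
  simpa [stageB] using h

end Reg

namespace Taut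

variable (τ : Taut B)

/-- The relation between the classes of the twists. -/
theorem rel_cl {F : B.P.Modules} (hF : FlatMod.IsFinLocFree F) :
    ∑ i ∈ Finset.range (n + 2), (-1 : ℤ) ^ i •
      Kvb46.mulK (PL B (τ.e i)) (clv (B.tw ((n + 1 - i : ℕ) : ℤ) F)) = 0 := by
  obtain ⟨G, hG, hz, ⟨e0⟩, -, hS⟩ := τ.exists_terms hF
  refine sum_alt_eq_zero (fun i => clv (G i)) _ ?_ ?_ fun i hi => ?_
  · rw [τ.e_zero, PL_cl Kvb46.isFinLocFree_structure, Kvb46.cl_iso (PicLoc.pullbackStructureIso B.π)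
      (vb_pullback B.π Kvb46.isFinLocFree_structure), Kvb46.mulK_one]
    exact (Kvb46.cl_iso e0 (hG 0)).symm
  · exact K0Proj46.cl_isZero hz
  · obtain ⟨S, hS, ⟨i₁⟩, ⟨i₂⟩, ⟨i₃⟩⟩ := hS i (by omega)
    have hp := flf_tw (B := B) hF ((n - i : ℕ) : ℤ)
    have f₁ := Kvb46.isFinLocFree_iso i₁.symm (hG (i + 1))
    have f₂ : FlatMod.IsFinLocFree S.X₂ := Kvb46.isFinLocFree_iso i₂.symm
      (Kvb46.isFinLocFree_tensor (vb_pullback B.π (τ.flf_lam _)) hp)
    have f₃ := Kvb46.isFinLocFree_iso i₃.symm (hG i)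
    have hadd := Kvb46.cl_add S hS f₁ f₂ f₃
    rw [Kvb46.cl_iso i₁ f₁, Kvb46.cl_iso i₃ f₃, Kvb46.cl_iso i₂ f₂] at hadd
    show Kvb46.mulK (PL B (τ.e (i + 1))) (clv (B.tw ((n + 1 - (i + 1) : ℕ) : ℤ) F)) = _
    rw [Nat.add_sub_add_right, e, PL_cl (τ.flf_lam _), Kvb46.mulK_cl (vb_pullback B.π (τ.flf_lam _)) hp]
    exact hadd

include τ in
theorem mem_range_of_tw : ∀ (m : ℕ) {F : B.P.Modules}, FlatMod.IsFinLocFree F →
    (∀ d : ℤ, (m : ℤ) ≤ d → Reg B (B.tw d F)) → clv F ∈ (Φ B).range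
  | 0, F, hF, h => by
    obtain ⟨e⟩ := nonempty_twP_zero B.O1 B.Oi F
    rw [← Kvb46.cl_iso e (flf_tw hF 0)]
    exact mem_range_of_reg (flf_tw hF 0) (h 0 (by simp))
  | m + 1, F, hF, h => by
    obtain ⟨e⟩ := nonempty_twP_zero B.O1 B.Oi F
    have hs := solve_alt (fun i => Kvb46.mulK (PL B (τ.e i))) (Kvb46.mulK (PL B τ.dinv))
      (fun x => by rw [← Kvb46.mulK_assoc, ← PL_mulK,
        show Kvb46.mulK τ.dinv (τ.e (n + 1)) = Kvb46.oneK T by
          have := τ.dinv_e (Kvb46.oneK T)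
          rwa [Kvb46.mulK_comm (τ.e (n + 1)), Kvb46.mulK_one] at this,
        PL_cl Kvb46.isFinLocFree_structure, Kvb46.cl_iso (PicLoc.pullbackStructureIso B.π)
          (vb_pullback B.π Kvb46.isFinLocFree_structure), Kvb46.mulK_one])
      (fun i => clv (B.tw ((n + 1 - i : ℕ) : ℤ) F)) (τ.rel_cl hF)
    rw [Nat.sub_self, Kvb46.cl_iso (show B.tw ((0 : ℕ) : ℤ) F ≅ F from e) (flf_tw hF _)] at hs
    rw [← hs]
    refine AddSubgroup.zsmul_mem _ (mul_mem_range _ (sum_mem fun i hi => AddSubgroup.zsmul_mem _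
      (mul_mem_range _ (mem_range_of_tw m (flf_tw hF _) fun d hd => ?_)) _)) _
    obtain ⟨t⟩ := nonempty_twP_twP B.inv d ((n + 1 - i : ℕ) : ℤ) F
    intro c
    exact isRegSheaf_of_iso (c.res.mapIso t.symm)
      (h (d + ((n + 1 - i : ℕ) : ℤ)) (by have := Finset.mem_range.1 hi; push_cast; omega) c)

variable [CompactSpace T]

include τ in
theorem Φ_surjective : Function.Surjective (Φ B) := by
  have h : (QuotientAddGroup.mk' (Φ B).range) = 0 := Kvb46.hom_ext_vb fun F hF => by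
    obtain ⟨m, hm⟩ := exists_reg (B := B) hF
    exact (QuotientAddGroup.eq_zero_iff _).2 (τ.mem_range_of_tw m hF hm)
  exact fun y => (QuotientAddGroup.eq_zero_iff y).1 (DFunLike.congr_fun h y)

theorem PC_TW_PL {e : ℤ} (he : -(n : ℤ) ≤ e) (he' : e < 0) (a : SGA6.Kvb T) :
    τ.PC (TW B e (PL B a)) = 0 :=
  DFunLike.congr_fun (Kvb46.hom_ext_vb (g := τ.PC.comp ((TW B e).comp (PL B))) (g' := 0) fun N hN => by
    have hp := vb_pullback B.π hN
    show τ.PC (TW B e (PL B (clv N))) = 0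
    rw [PL_cl hN, TW_cl e hp, τ.PC_cl (flf_tw hp e) (acy_tw_pull hN he)]
    exact K0Proj46.cl_isZero (isZero_push_tw_pull hN he he')) a

theorem PC_PL (a : SGA6.Kvb T) : τ.PC (PL B a) = a :=
  DFunLike.congr_fun (Kvb46.hom_ext_vb (g := τ.PC.comp (PL B)) (g' := AddMonoidHom.id _) fun N hN => by
    have hp := vb_pullback B.π hN
    have hA : Acy B ((Scheme.Modules.pullback B.π).obj N) :=
      (acy_tw_pull hN (e := 0) (by omega)).of_iso (nonempty_twP_zero B.O1 B.Oi _).some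
    show τ.PC (PL B (clv N)) = clv N
    rw [PL_cl hN, τ.PC_cl hp hA]
    haveI := isIso_unit_vb B hN
    exact (Kvb46.cl_iso (asIso ((Scheme.Modules.pullbackPushforwardAdjunction B.π).unit.app N)) hN).symm) a

include τ in
theorem PL_injective : Function.Injective (PL B) :=
  Function.LeftInverse.injective (g := τ.PC) τ.PC_PL

include τ in
theorem Φ_injective : Function.Injective (Φ B) := by
  refine (injective_iff_map_eq_zero _).2 fun a ha => funext fun j => ?_
  obtain ⟨k, hk⟩ := j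
  induction k using Nat.strong_induction_on with
  | _ k ih =>
    have h := congrArg (fun x => τ.PC (TW B (k : ℤ) x)) ha
    simp only [Φ_apply, map_sum, map_zero, TW_TW] at h
    rw [Finset.sum_eq_single (⟨k, hk⟩ : Fin (n + 1))] at h
    · simpa [TW_zero, PC_PL] using h
    · intro i _ hi
      rcases lt_or_gt_of_ne (fun he => hi (Fin.ext he) : (i : ℕ) ≠ k) with hlt | hgt
      · rw [ih i hlt i.2, Pi.zero_apply, map_zero, map_zero, map_zero]
      · exact τ.PC_TW_PL (by have := i.2; omega) (by omega) _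
    · exact fun h => absurd (Finset.mem_univ _) h

include τ in
theorem bijective_Φ : Function.Bijective (Φ B) := ⟨τ.Φ_injective, τ.Φ_surjective⟩

end Taut

end Groth.Agent.PB46

namespace Groth.Agent.PB46

open CategoryTheory CategoryTheory.Limits AlgebraicGeometry

/-- The bundle given by the universal property. -/
abbrev ofProjBundle {n : ℕ} {T P : Scheme.{u}} {π : P ⟶ T} {E : T.Modules} {O1 Oinv : P.Modules}
    {q : (Scheme.Modules.pullback π).obj E ⟶ O1} (hE : FlatMod.IsFinLocFreeOfRank (n + 1) E)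
    (hPB : KRR.IsProjBundle π E O1 q) (hinv : ClSub.IsInverseOf Oinv O1) : Bundle n T :=
  ⟨P, π, O1, Oinv, hinv, hasCharts hE hPB⟩

/-- Its tautological quotient. -/
abbrev tautOfProjBundle {n : ℕ} {T P : Scheme.{u}} {π : P ⟶ T} {E : T.Modules} {O1 Oinv : P.Modules}
    {q : (Scheme.Modules.pullback π).obj E ⟶ O1} (hE : FlatMod.IsFinLocFreeOfRank (n + 1) E)
    (hPB : KRR.IsProjBundle π E O1 q) (hinv : ClSub.IsInverseOf Oinv O1) :
    Taut (ofProjBundle hE hPB hinv) :=
  ⟨E, hE, q, hPB.epi, hPB.invertible⟩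

/-- The classes on a projective bundle form a free module on the powers of the inverse tautological class. -/
theorem bijective_of_isProjBundle {T P : Scheme.{u}} [CompactSpace T] {r : ℕ} {E : T.Modules}
    (hE : FlatMod.IsFinLocFreeOfRank r E) {π : P ⟶ T} {O1 : P.Modules}
    {q : (Scheme.Modules.pullback π).obj E ⟶ O1} (hPB : KRR.IsProjBundle π E O1 q)
    {Oinv : P.Modules} (hinv : ClSub.IsInverseOf Oinv O1) (G : Fin r → (SGA6.Kvb T →+ SGA6.Kvb P))
    (hG : ∀ (i : Fin r) (N : T.Modules), FlatMod.IsFinLocFree N →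
      G i (KRR.cl T N) = KRR.cl P (CohB1.tensorMod (CohB1.tensorPow Oinv (i : ℕ)) ((Scheme.Modules.pullback π).obj N))) :
    Function.Bijective (fun a : Fin r → SGA6.Kvb T => ∑ i : Fin r, G i (a i)) := by
  rcases r with _ | n
  · haveI := hPB.epi
    have hz : IsZero O1 := IsZero.of_epi q
      (KRR40.isZero_of_rank_zero (KRR40.finLocFreeOfRank_pullback π hE))
    obtain ⟨h⟩ := hinv
    have hO : IsZero (Coh.structureModule P) :=
      ((DCoh.tensorBi.obj Oinv).map_isZero hz).of_iso h.symm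
    have hall : ∀ M : P.Modules, IsZero M := fun M =>
      ((DCoh.tensorBi.obj M).map_isZero hO).of_iso (EGA73.tensUnitRight M).symm
    have hsub : ∀ x : SGA6.Kvb P, x = 0 := fun x =>
      DFunLike.congr_fun (Kvb46.hom_ext_vb (g := AddMonoidHom.id _) (g' := 0)
        fun M _ => K0Proj46.cl_isZero (hall M)) x
    exact ⟨fun a b _ => Subsingleton.elim a b, fun y => ⟨0, (hsub _).trans (hsub y).symm⟩⟩
  · let B := ofProjBundle hE hPB hinv
    have hG' : ∀ i : Fin (n + 1), G i = (TW B (-((i : ℕ) : ℤ))).comp (PL B) := fun i =>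
      Kvb46.hom_ext_vb fun N hN => by
        rw [AddMonoidHom.comp_apply, PL_cl hN, TW_cl _ (KRR40.vb_pullback B.π hN)]
        refine (hG i N hN).trans (Kvb46.cl_iso (EGA73.tensIso (nonempty_oz_neg B.O1 B.Oi i).some (Iso.refl _))
          (flf_tw (KRR40.vb_pullback B.π hN) _)).symm
    have h := (tautOfProjBundle hE hPB hinv).bijective_Φ
    refine (congrArg Function.Bijective (funext fun a => ?_)).mp h
    rw [Φ_apply]
    exact Finset.sum_congr rfl fun i _ => by rw [hG']; rfl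

end Groth.Agent.PB46
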