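import Groth.Agent.PB46.Rel

/-!
The push-forward on classes for a projective bundle.
-/

set_option autoImplicit false
set_option linter.style.haveILetI false
set_option backward.isDefEq.respectTransparency.types false
set_option maxSynthPendingDepth 6

noncomputable section

universe v u

open CategoryTheory CategoryTheory.Limits AlgebraicGeometry
open scoped ZeroObject

namespace Groth.Agent.PB46

open Groth.Agent.KRR40

local notation "clv" => Kvb46.cl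

section Alg

variable {Γ : Type v} [AddCommGroup Γ]

theorem sum_alt_eq_zero {N : ℕ} (g v : ℕ → Γ) (h0 : v 0 = g 0) (hz : g N = 0)
    (hv : ∀ i, i < N → v (i + 1) = g (i + 1) + g i) :
    ∑ i ∈ Finset.range (N + 1), (-1 : ℤ) ^ i • v i = 0 := by
  rw [Finset.sum_range_succ', Finset.sum_congr rfl fun i hi =>
    show (-1 : ℤ) ^ (i + 1) • v (i + 1) = (-1 : ℤ) ^ (i + 1) • g (i + 1) - (-1 : ℤ) ^ i • g i by
      rw [hv i (Finset.mem_range.1 hi), pow_succ, mul_neg_one, neg_smul, neg_smul, smul_add]; abel,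
    Finset.sum_range_sub (fun i => (-1 : ℤ) ^ i • g i), hz, h0]
  simp

theorem solve_alt {N : ℕ} (M : ℕ → Γ →+ Γ) (Di : Γ →+ Γ) (hDi : ∀ x, Di (M (N + 1) x) = x) (p : ℕ → Γ)
    (h : ∑ i ∈ Finset.range (N + 2), (-1 : ℤ) ^ i • M i (p i) = 0) :
    (-1 : ℤ) ^ N • Di (∑ i ∈ Finset.range (N + 1), (-1 : ℤ) ^ i • M i (p i)) = p (N + 1) := by
  rw [Finset.sum_range_succ, ← eq_neg_iff_add_eq_zero] at h
  rw [h, map_neg, map_zsmul, hDi, pow_succ, mul_neg_one, neg_smul, neg_neg, smul_smul, ← mul_pow]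
  simp

end Alg

variable {n : ℕ} {T : Scheme.{u}} {B : Bundle n T}

theorem nonempty_oz_one (L L' : B.P.Modules) : Nonempty (Oz L L' 1 ≅ L) := by
  obtain ⟨e⟩ := nonempty_oz_nat L L' 1
  exact ⟨e ≪≫ EGA73.tensUnitLeft L⟩

theorem nonempty_tw_one (d : ℤ) (F : B.P.Modules) :
    Nonempty (CohB1.tensorMod B.O1 (B.tw d F) ≅ B.tw (d + 1) F) := by
  obtain ⟨e⟩ := nonempty_oz_one (B := B) B.O1 B.Oi
  obtain ⟨a⟩ := nonempty_twP_twP B.inv 1 d F
  exact ⟨EGA73.tensIso e.symm (Iso.refl _) ≪≫ a ≪≫ eqToIso (congrArg (fun z => B.tw z F) (add_comm 1 d))⟩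

namespace Taut

variable (τ : Taut B)

/-- The classes of the exterior powers. -/
def e (i : ℕ) : SGA6.Kvb T := clv (τ.lam i)

/-- The inverse of the determinant. -/
def dinv : SGA6.Kvb T := clv (An92.InvMod.exists_inverse τ.isInvertible_top).choose

theorem flf_dinv : FlatMod.IsFinLocFree (An92.InvMod.exists_inverse τ.isInvertible_top).choose :=
  K0Proj46.flf_isInvertible (An92.InvMod.exists_inverse τ.isInvertible_top).choose_spec.1

theorem e_zero : τ.e 0 = Kvb46.oneK T := Kvb46.cl_unique τ.flfE (τ.isExtPow_lam 0) (τ.flf_lam 0)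
  (Kvb46.isExtPow_zero τ.E)

theorem dinv_e (x : SGA6.Kvb T) : Kvb46.mulK τ.dinv (Kvb46.mulK (τ.e (n + 1)) x) = x := by
  rw [← Kvb46.mulK_assoc, dinv, e, Kvb46.mulK_cl τ.flf_dinv (τ.flf_lam _)]
  obtain ⟨h⟩ := (An92.InvMod.exists_inverse τ.isInvertible_top).choose_spec.2
  rw [Kvb46.cl_iso h (Kvb46.isFinLocFree_tensor τ.flf_dinv (τ.flf_lam _))]
  exact Kvb46.mulK_one x

/-- The modules of the relation for `F`. -/
theorem exists_terms {F : B.P.Modules} (hF : FlatMod.IsFinLocFree F) :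
    ∃ G : ℕ → B.P.Modules, (∀ i, FlatMod.IsFinLocFree (G i)) ∧ IsZero (G (n + 1)) ∧
      Nonempty (G 0 ≅ B.tw ((n + 1 : ℕ) : ℤ) F) ∧
      (Acy B F → ∀ i, i ≤ n + 1 → Acy B (G i)) ∧
      ∀ i, i ≤ n → ∃ S : ShortComplex B.P.Modules, S.ShortExact ∧ Nonempty (S.X₁ ≅ G (i + 1)) ∧
        Nonempty (S.X₂ ≅ CohB1.tensorMod ((Scheme.Modules.pullback B.π).obj (τ.lam (i + 1)))
          (B.tw ((n - i : ℕ) : ℤ) F)) ∧
        Nonempty (S.X₃ ≅ G i) := by
  obtain ⟨a, ha, hz, ⟨e0⟩, hseq⟩ := τ.exists_data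
  let G : ℕ → B.P.Modules := fun i => CohB1.tensorMod (B.tw ((n + 1 - i : ℕ) : ℤ) F) (a i)
  have hS : ∀ i, i ≤ n → ∃ S : ShortComplex B.P.Modules, S.ShortExact ∧ Nonempty (S.X₁ ≅ G (i + 1)) ∧
      Nonempty (S.X₂ ≅ CohB1.tensorMod ((Scheme.Modules.pullback B.π).obj (τ.lam (i + 1)))
        (B.tw ((n - i : ℕ) : ℤ) F)) ∧ Nonempty (S.X₃ ≅ G i) := fun i hi => by
    obtain ⟨S, hS, ⟨i₁⟩, ⟨i₂⟩, ⟨i₃⟩⟩ := hseq i
    let X := B.tw ((n - i : ℕ) : ℤ) F
    obtain ⟨t⟩ := nonempty_tw_one ((n - i : ℕ) : ℤ) F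
    refine ⟨S.map (DCoh.tensorBi.obj X), Kvb46.shortExact_tensor_left (flf_tw hF _) hS,
      ⟨(DCoh.tensorBi.obj X).mapIso i₁ ≪≫ eqToIso ?_⟩,
      ⟨(DCoh.tensorBi.obj X).mapIso i₂ ≪≫ EGA73.tensComm _ _⟩,
      ⟨(DCoh.tensorBi.obj X).mapIso (i₃ ≪≫ EGA73.tensComm _ _) ≪≫ (EGA73.tensAssoc' _ _ _).symm ≪≫
        EGA73.tensIso (EGA73.tensComm _ _ ≪≫ t ≪≫ eqToIso ?_) (Iso.refl _)⟩⟩
    · show CohB1.tensorMod (B.tw ((n - i : ℕ) : ℤ) F) (a (i + 1)) = _
      simp only [G, Nat.add_sub_add_right]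
    · exact congrArg (fun z => B.tw z F) (by omega)
  refine ⟨G, fun i => Kvb46.isFinLocFree_tensor (flf_tw hF _) (ha i), (DCoh.tensorBi.obj (B.tw ((n + 1 - (n + 1) : ℕ) : ℤ) F)).map_isZero hz,
    ⟨EGA73.tensIso (Iso.refl _) e0 ≪≫ EGA73.tensUnitRight _⟩, fun hA => ?_, hS⟩
  suffices key : ∀ k i, i + k = n + 1 → Acy B (G i) from fun i hi => key (n + 1 - i) i (by omega)
  intro k
  induction k with
  | zero =>
    intro i hi
    obtain rfl : i = n + 1 := by omega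
    exact acy_of_isZero ((DCoh.tensorBi.obj (B.tw ((n + 1 - (n + 1) : ℕ) : ℤ) F)).map_isZero hz)
  | succ k ih =>
    intro i hi
    obtain ⟨S, hS, ⟨i₁⟩, ⟨i₂⟩, ⟨i₃⟩⟩ := hS i (by omega)
    exact (acy_X₃ hS ((ih (i + 1) (by omega)).of_iso i₁.symm)
      ((acy_pull_tensor (τ.flf_lam _) (flf_tw hF _) (hA.tw (Int.natCast_nonneg _))).of_iso i₂.symm)).of_iso i₃

/-- The relation between the direct images of the twists. -/
theorem rel_push {F : B.P.Modules} (hF : FlatMod.IsFinLocFree F) (hA : Acy B F) :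
    ∑ i ∈ Finset.range (n + 2), (-1 : ℤ) ^ i •
      Kvb46.mulK (τ.e i) (clv (B.push.obj (B.tw ((n + 1 - i : ℕ) : ℤ) F))) = 0 := by
  obtain ⟨G, hG, hz, ⟨e0⟩, hGA, hS⟩ := τ.exists_terms hF
  refine sum_alt_eq_zero (fun i => clv (B.push.obj (G i))) _ ?_ ?_ fun i hi => ?_
  · rw [τ.e_zero, Kvb46.mulK_one]
    exact (Kvb46.cl_iso (B.push.mapIso e0) (flf_push (hG 0) (hGA hA 0 (by omega)))).symm
  · exact K0Proj46.cl_isZero (B.push.map_isZero hz)
  · obtain ⟨S, hS, ⟨i₁⟩, ⟨i₂⟩, ⟨i₃⟩⟩ := hS i (by omega)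
    have hp := flf_tw (B := B) hF ((n - i : ℕ) : ℤ)
    have a₁ : Acy B S.X₁ := (hGA hA (i + 1) (by omega)).of_iso i₁.symm
    have a₂ : Acy B S.X₂ := (acy_pull_tensor (τ.flf_lam _) hp (hA.tw (Int.natCast_nonneg _))).of_iso i₂.symm
    have a₃ : Acy B S.X₃ := (hGA hA i (by omega)).of_iso i₃.symm
    have f₁ := Kvb46.isFinLocFree_iso i₁.symm (hG (i + 1))
    have f₂ : FlatMod.IsFinLocFree S.X₂ := Kvb46.isFinLocFree_iso i₂.symm
      (Kvb46.isFinLocFree_tensor (vb_pullback B.π (τ.flf_lam _)) hp)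
    have f₃ := Kvb46.isFinLocFree_iso i₃.symm (hG i)
    have hadd := Kvb46.cl_add (S.map B.push) (shortExact_push hS a₁) (flf_push f₁ a₁) (flf_push f₂ a₂) (flf_push f₃ a₃)
    change clv (B.push.obj S.X₂) = clv (B.push.obj S.X₁) + clv (B.push.obj S.X₃) at hadd
    rw [Kvb46.cl_iso (B.push.mapIso i₁) (flf_push f₁ a₁), Kvb46.cl_iso (B.push.mapIso i₃) (flf_push f₃ a₃),
      Kvb46.cl_iso (B.push.mapIso i₂ ≪≫ projIso (τ.flf_lam _) _) (flf_push f₂ a₂)] at hadd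
    show Kvb46.mulK (τ.e (i + 1)) (clv (B.push.obj (B.tw ((n + 1 - (i + 1) : ℕ) : ℤ) F))) = _
    rw [Nat.add_sub_add_right, e, Kvb46.mulK_cl (τ.flf_lam _) (flf_push hp (hA.tw (Int.natCast_nonneg _)))]
    exact hadd

/-- Solving the relation for the lowest twist. -/
def step (g : ℤ → SGA6.Kvb T) : SGA6.Kvb T :=
  (-1 : ℤ) ^ n • Kvb46.mulK τ.dinv
    (∑ i ∈ Finset.range (n + 1), (-1 : ℤ) ^ i • Kvb46.mulK (τ.e i) (g ((n + 1 - i : ℕ) : ℤ)))

theorem step_add (g g' : ℤ → SGA6.Kvb T) : τ.step (fun d => g d + g' d) = τ.step g + τ.step g' := by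
  simp only [step, map_add, smul_add, Finset.sum_add_distrib]

theorem step_congr {g g' : ℤ → SGA6.Kvb T} (h : ∀ d, 1 ≤ d → g d = g' d) : τ.step g = τ.step g' := by
  simp only [step]
  congr 2
  refine Finset.sum_congr rfl fun i hi => ?_
  rw [h _ (by have := Finset.mem_range.1 hi; omega)]

theorem step_push {F : B.P.Modules} (hF : FlatMod.IsFinLocFree F) (hA : Acy B F) :
    τ.step (fun d => clv (B.push.obj (B.tw d F))) = clv (B.push.obj F) := by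
  refine (solve_alt (fun i => Kvb46.mulK (τ.e i)) (Kvb46.mulK τ.dinv) τ.dinv_e
    (fun i => clv (B.push.obj (B.tw ((n + 1 - i : ℕ) : ℤ) F))) (τ.rel_push hF hA)).trans ?_
  rw [Nat.sub_self]
  obtain ⟨z⟩ := nonempty_twP_zero B.O1 B.Oi F
  exact Kvb46.cl_iso (B.push.mapIso z) (flf_push (flf_tw hF 0) (hA.tw le_rfl))

/-- No higher direct images in the twists from `m` on. -/
def AcyM (m : ℕ) (F : B.P.Modules) : Prop :=
  FlatMod.IsFinLocFree F ∧ ∀ d : ℤ, (m : ℤ) ≤ d → Acy B (B.tw d F)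

theorem AcyM.acy {F : B.P.Modules} (h : AcyM 0 F) : Acy B F :=
  (h.2 0 (by simp)).of_iso (nonempty_twP_zero B.O1 B.Oi F).some

theorem AcyM.mono {F : B.P.Modules} {m m' : ℕ} (h : AcyM m F) (hm : m ≤ m') : AcyM m' F :=
  ⟨h.1, fun d hd => h.2 d (by omega)⟩

theorem AcyM.tw {F : B.P.Modules} {m : ℕ} (h : AcyM (m + 1) F) {e : ℤ} (he : 1 ≤ e) : AcyM m (B.tw e F) :=
  ⟨flf_tw h.1 e, fun d hd => (h.2 (d + e) (by push_cast; omega)).of_iso (nonempty_twP_twP B.inv d e F).some.symm⟩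

theorem acyM_zero {F : B.P.Modules} (hF : FlatMod.IsFinLocFree F) (h : Acy B F) : AcyM 0 F :=
  ⟨hF, fun d hd => h.tw (by simpa using hd)⟩

/-- The class of the direct image, by descending twists. -/
def pcl : ℕ → B.P.Modules → SGA6.Kvb T
  | 0, F => clv (B.push.obj F)
  | m + 1, F => τ.step (fun d => pcl m (B.tw d F))

theorem pcl_add : ∀ (m : ℕ) (S : ShortComplex B.P.Modules), S.ShortExact →
    AcyM m S.X₁ → AcyM m S.X₂ → AcyM m S.X₃ → τ.pcl m S.X₂ = τ.pcl m S.X₁ + τ.pcl m S.X₃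
  | 0, S, hS, h₁, h₂, h₃ => Kvb46.cl_add (S.map B.push) (shortExact_push hS h₁.acy) (flf_push h₁.1 h₁.acy)
      (flf_push h₂.1 h₂.acy) (flf_push h₃.1 h₃.acy)
  | m + 1, S, hS, h₁, h₂, h₃ => by
    simp only [pcl]
    rw [← τ.step_add]
    exact τ.step_congr fun d hd => pcl_add m (S.map (DCoh.tensorBi.obj (Oz B.O1 B.Oi d))) (shortExact_tw hS d)
      (h₁.tw hd) (h₂.tw hd) (h₃.tw hd)

theorem pcl_succ : ∀ (m : ℕ) {F : B.P.Modules}, AcyM m F → τ.pcl (m + 1) F = τ.pcl m F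
  | 0, F, h => τ.step_push h.1 h.acy
  | m + 1, F, h => by
    show τ.step _ = τ.step _
    exact τ.step_congr fun d hd => pcl_succ m (h.tw hd)

theorem pcl_le {F : B.P.Modules} {m m' : ℕ} (h : AcyM m F) (hle : m ≤ m') : τ.pcl m' F = τ.pcl m F := by
  induction m', hle using Nat.le_induction with
  | base => rfl
  | succ k hk ih => rw [τ.pcl_succ k (h.mono hk), ih]

theorem exists_acyM [CompactSpace T] {F : B.P.Modules} (hF : FlatMod.IsFinLocFree F) : ∃ m, AcyM m F := by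
  obtain ⟨m, hm⟩ := exists_acy hF
  exact ⟨m, hF, hm⟩

open scoped Classical in
/-- The push-forward on classes. -/
def PC [CompactSpace T] : SGA6.Kvb B.P →+ SGA6.Kvb T :=
  Kvb46.homVb (fun F => if h : FlatMod.IsFinLocFree F then τ.pcl (exists_acyM h).choose F else 0)
    fun S hS h₁ h₂ h₃ => by
      rw [dif_pos h₁, dif_pos h₂, dif_pos h₃]
      have r₁ := (exists_acyM h₁).choose_spec
      have r₂ := (exists_acyM h₂).choose_spec
      have r₃ := (exists_acyM h₃).choose_spec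
      let M := (exists_acyM h₁).choose + (exists_acyM h₂).choose + (exists_acyM h₃).choose
      rw [← τ.pcl_le r₁ (show _ ≤ M by omega), ← τ.pcl_le r₂ (show _ ≤ M by omega),
        ← τ.pcl_le r₃ (show _ ≤ M by omega)]
      exact τ.pcl_add M S hS (r₁.mono (by omega)) (r₂.mono (by omega)) (r₃.mono (by omega))

theorem PC_cl [CompactSpace T] {F : B.P.Modules} (hF : FlatMod.IsFinLocFree F) (h : Acy B F) :
    τ.PC (clv F) = clv (B.push.obj F) := by
  rw [PC, Kvb46.homVb_cl _ _ hF, dif_pos hF, τ.pcl_le (acyM_zero hF h) (Nat.zero_le _)]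
  rfl

end Taut

end Groth.Agent.PB46
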