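import Groth.Agent.PB46.Acy
import Groth.Agent.PB46.Rank
import Groth.Agent.An92.Ample.Inverse

/-!
The relation between the direct images of consecutive twists on a projective bundle.
-/

set_option autoImplicit false
set_option linter.style.haveILetI false
set_option backward.isDefEq.respectTransparency.types false
set_option maxSynthPendingDepth 6

noncomputable section

universe u

open CategoryTheory CategoryTheory.Limits AlgebraicGeometry TopologicalSpace Opposite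

namespace Groth.Agent.PB46

open Groth.Agent.KRR40

/-- The tautological quotient. -/
structure Taut {n : ℕ} {T : Scheme.{u}} (B : Bundle n T) where
  E : T.Modules
  hE : FlatMod.IsFinLocFreeOfRank (n + 1) E
  q : (Scheme.Modules.pullback B.π).obj E ⟶ B.O1
  epi : Epi q
  hO1 : FlatMod.IsFinLocFreeOfRank 1 B.O1

variable {n : ℕ} {T : Scheme.{u}} {B : Bundle n T}

theorem isZero_biproduct_map {C D : Type*} [Category C] [Abelian C] [Category D] [Abelian D] (Φ : C ⥤ D)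
    [Φ.Additive] {k : ℕ} (O : Fin k → C) (h : ∀ i, IsZero (Φ.obj (O i))) : IsZero (Φ.obj (∐ O)) := by
  classical
  haveI : HasFiniteBiproducts C := Abelian.hasFiniteBiproducts
  refine IsZero.of_iso ?_ (Φ.mapIso (biproduct.isoCoproduct O).symm)
  rw [IsZero.iff_id_eq_zero, ← Φ.map_id, ← biproduct.total, Functor.map_sum]
  refine Finset.sum_eq_zero fun i _ => ?_
  rw [Functor.map_comp, (h i).eq_of_src (Φ.map (biproduct.ι O i)) 0, comp_zero]

/-- An inverse image from the base does not destroy acyclicity. -/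
theorem acy_pull_tensor {N : T.Modules} (hN : FlatMod.IsFinLocFree N) {F : B.P.Modules}
    (hF : FlatMod.IsFinLocFree F) (hA : Acy B F) :
    Acy B (CohB1.tensorMod ((Scheme.Modules.pullback B.π).obj N) F) := by
  intro c d hd i hi
  let G := CohB1.tensorMod ((Scheme.Modules.pullback B.π).obj N) F
  have hG : FlatMod.IsFinLocFree G := Kvb46.isFinLocFree_tensor (vb_pullback B.π hN) hF
  have key := isZero_RF_of_cover (M := B.tw d G) (K0Proj46.isQCoh_of_flf (flf_tw hG d)) hi (fun y => ?_) c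
  · exact key.of_iso ((RF (KRR.pr n c.S) i).mapIso (c.res_tw d G).some.symm)
  · obtain ⟨U, k, hy, ⟨e⟩⟩ := hN y
    obtain ⟨c', hy', hc'⟩ := exists_chart B U hy
    refine ⟨c', hy', ?_⟩
    let j := T.homOfLE hc'
    have hj : j ≫ U.ι = c'.V.ι := T.homOfLE_ι hc'
    let e₁ : (Scheme.Modules.pullback c'.V.ι).obj N ≅ FlatMod.freeMod c'.S k :=
      ((Scheme.Modules.pullbackCongr hj).app N).symm ≪≫ ((Scheme.Modules.pullbackComp j U.ι).app N).symm ≪≫
        (Scheme.Modules.pullback j).mapIso (((Scheme.Modules.restrictFunctorIsoPullback U.ι).app N).symm ≪≫ e) ≪≫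
        FrB.pullbackFreeIso j k
    let e₂ : c'.res.obj ((Scheme.Modules.pullback B.π).obj N) ≅ FlatMod.freeMod (KRR.PY n c'.S) k :=
      c'.pullIso N ≪≫ (Scheme.Modules.pullback (KRR.pr n c'.S)).mapIso e₁ ≪≫
        FrB.pullbackFreeIso (KRR.pr n c'.S) k
    let X := c'.res.obj F
    let Φ := DCoh.tensorBi.obj X ⋙ DCoh.tensorBi.obj (Twist.twistOver n c'.S d) ⋙ RF (KRR.pr n c'.S) i
    haveI : (RF (KRR.pr n c'.S) i).Additive := inferInstance
    have hz : IsZero (Φ.obj (FlatMod.freeMod (KRR.PY n c'.S) k)) := isZero_biproduct_map Φ _ fun _ =>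
      (hA c' d hd i hi).of_iso ((RF (KRR.pr n c'.S) i).mapIso
        ((DCoh.tensorBi.obj (Twist.twistOver n c'.S d)).mapIso (EGA73.tensUnitRight X)))
    refine hz.of_iso ((RF (KRR.pr n c'.S) i).mapIso ((c'.res_tw d G).some ≪≫
      (DCoh.tensorBi.obj (Twist.twistOver n c'.S d)).mapIso
        (TwTens96.pullTensIso c'.χ _ F ≪≫ EGA73.tensComm _ _ ≪≫ EGA73.tensIso (Iso.refl X) e₂)))

/-- The projection formula. -/
def projIso {N : T.Modules} (hN : FlatMod.IsFinLocFree N) (F : B.P.Modules) :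
    B.push.obj (CohB1.tensorMod ((Scheme.Modules.pullback B.π).obj N) F) ≅ CohB1.tensorMod N (B.push.obj F) :=
  B.push.mapIso (EGA73.tensComm _ _) ≪≫ (projIsoVB B.π F hN).symm ≪≫ EGA73.tensComm _ _

namespace Taut

variable (τ : Taut B)

theorem flfE : FlatMod.IsFinLocFree τ.E := vb_of_rank τ.hE

/-- The exterior powers of the module. -/
def lam (i : ℕ) : T.Modules :=
  haveI := Props58.LocFree.isQuasicoherent_of_isFinLocFree τ.flfE
  (FBase64.ExtPowExists.exists_isExtPow (E := τ.E) (p := i)).choose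

theorem isExtPow_lam (i : ℕ) : ExtPow.IsExtPow i τ.E (τ.lam i) :=
  haveI := Props58.LocFree.isQuasicoherent_of_isFinLocFree τ.flfE
  (FBase64.ExtPowExists.exists_isExtPow (E := τ.E) (p := i)).choose_spec

theorem flf_lam (i : ℕ) : FlatMod.IsFinLocFree (τ.lam i) := vb_extPow τ.flfE (τ.isExtPow_lam i)

theorem isInvertible_top : PicF.IsInvertible (τ.lam (n + 1)) := fun x => by
  have h := rank_extPow τ.hE (τ.isExtPow_lam (n + 1))
  rw [Nat.choose_self] at h
  obtain ⟨U, hx, ⟨φ⟩⟩ := h x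
  exact ⟨U, hx, ⟨φ ≪≫ coproductUniqueIso fun _ : Fin 1 => Coh.structureModule (↑U : Scheme.{u})⟩⟩

/-- The tautological sequences of exterior powers. -/
theorem exists_data : ∃ A : ℕ → B.P.Modules, (∀ i, FlatMod.IsFinLocFree (A i)) ∧ IsZero (A (n + 1)) ∧
    Nonempty (A 0 ≅ Coh.structureModule B.P) ∧
    ∀ i, ∃ S : ShortComplex B.P.Modules, S.ShortExact ∧ Nonempty (S.X₁ ≅ A (i + 1)) ∧
      Nonempty (S.X₂ ≅ (Scheme.Modules.pullback B.π).obj (τ.lam (i + 1))) ∧
      Nonempty (S.X₃ ≅ CohB1.tensorMod (A i) B.O1) := by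
  haveI := τ.epi
  let S : ShortComplex B.P.Modules := ShortComplex.mk (kernel.ι τ.q) τ.q (kernel.condition _)
  have hS : S.ShortExact := Var76.Reg.KData.kernel_shortExact _
  haveI : Fact S.ShortExact := ⟨hS⟩
  have hE' := finLocFreeOfRank_pullback B.π τ.hE
  have h₂ : FlatMod.IsFinLocFree S.X₂ := vb_of_rank hE'
  have h₃ : FlatMod.IsFinLocFree S.X₃ := vb_of_rank τ.hO1
  have h₁ : FlatMod.IsFinLocFree S.X₁ := K0Proj46.flf_X₁ hS h₂ h₃
  haveI := Props58.LocFree.isQuasicoherent_of_isFinLocFree h₁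
  haveI := Props58.LocFree.isQuasicoherent_of_isFinLocFree h₂
  haveI := Props58.LocFree.isQuasicoherent_of_isFinLocFree h₃
  haveI := Props58.LocFree.isQuasicoherent_of_isFinLocFree τ.flfE
  choose a ha using fun i => FBase64.ExtPowExists.exists_isExtPow (E := S.X₁) (p := i)
  choose d hd using fun i => FBase64.ExtPowExists.exists_isExtPow (E := S.X₃) (p := i)
  obtain ⟨A, hA⟩ := Kvb46.exists_pow a ha
  obtain ⟨D, hD⟩ := Kvb46.exists_pow d hd
  obtain ⟨P, hP'⟩ := Kvb46.exists_pow (E := S.X₂) (fun i => (Scheme.Modules.pullback B.π).obj (τ.lam i))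
    fun i => Om3.isExtPow_pullback B.π (τ.isExtPow_lam i)
  have hP := Kvb46.fine_chart S h₁ h₃
  obtain ⟨e0⟩ := FBase64.ExtPowExists.nonempty_iso_of_isExtPow (hd 0) (Kvb46.isExtPow_zero S.X₃)
  obtain ⟨e1⟩ := FBase64.ExtPowExists.nonempty_iso_of_isExtPow (hd 1) (Kvb46.isExtPow_one S.X₃)
  have hseq : ∀ i, ∃ S' : ShortComplex B.P.Modules, S'.ShortExact ∧ Nonempty (S'.X₁ ≅ a (i + 1)) ∧
      Nonempty (S'.X₂ ≅ (Scheme.Modules.pullback B.π).obj (τ.lam (i + 1))) ∧
      Nonempty (S'.X₃ ≅ CohB1.tensorMod (a i) B.O1) := fun i => by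
    obtain ⟨S', hS', ⟨i₁⟩, ⟨i₂⟩, ⟨i₃⟩⟩ := exists_seq_line S A P D hP
      (fun j hj => by rw [hD]; exact isZero_extPow τ.hO1 (hd j) (by omega)) i
    rw [hA, hD] at i₁ i₃
    rw [hP'] at i₂
    exact ⟨S', hS', ⟨i₁ ≪≫ EGA73.tensIso (Iso.refl _) e0 ≪≫ EGA73.tensUnitRight _⟩, ⟨i₂⟩,
      ⟨i₃ ≪≫ EGA73.tensIso (Iso.refl _) e1⟩⟩
  refine ⟨a, fun i => vb_extPow h₁ (ha i), ?_,
    FBase64.ExtPowExists.nonempty_iso_of_isExtPow (ha 0) (Kvb46.isExtPow_zero S.X₁), hseq⟩
  obtain ⟨S', hS', -, ⟨i₂⟩, ⟨i₃⟩⟩ := hseq (n + 1)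
  have hz2 : IsZero S'.X₂ := ((Scheme.Modules.pullback B.π).map_isZero
    (isZero_extPow τ.hE (τ.isExtPow_lam (n + 1 + 1)) (by omega))).of_iso i₂
  haveI := hS'.epi_g
  have hz3 : IsZero (CohB1.tensorMod (a (n + 1)) B.O1) := (IsZero.of_epi S'.g hz2).of_iso i₃.symm
  obtain ⟨h⟩ := B.inv
  exact ((DCoh.tensorBi.obj B.Oi).map_isZero (hz3.of_iso (EGA73.tensComm _ _))).of_iso
    ((EGA73.tensUnitLeft _).symm ≪≫ EGA73.tensIso h.symm (Iso.refl _) ≪≫ EGA73.tensAssoc' _ _ _)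

end Taut

end Groth.Agent.PB46
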