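import Groth.Agent.PB46.LineCl
import Groth.Agent.PB46.Free
import Groth.Agent.Cyc90.Dev.KerRank
import Groth.Agent.Cyc90.Dev.BundleUniv
import Groth.Agent.An92.Ample.Inverse

/-!
Splitting of classes of bundles into classes of lines on a quasi-compact base.
-/

set_option autoImplicit false
set_option backward.isDefEq.respectTransparency.types false
set_option linter.style.haveILetI false
set_option maxSynthPendingDepth 6

noncomputable section

universe u

open CategoryTheory CategoryTheory.Limits AlgebraicGeometry TopologicalSpace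

namespace Groth.Agent.PB46.SplitK

open Groth.Agent.KRR40

attribute [local instance] kvbRing kvbLambda

variable {X : Scheme.{u}}

/-- A relative projective space over a quasi-compact base is quasi-compact. -/
theorem compactSpace_bundle {n : ℕ} {T : Scheme.{u}} [CompactSpace T] (B : Bundle n T) : CompactSpace B.P := by
  choose c hc using fun y : T => exists_chart B ⊤ (y := y) trivial
  obtain ⟨t, ht⟩ := (isCompact_univ (X := T)).elim_finite_subcover (fun y => ((c y).V : Set T))
    (fun y => (c y).V.2) fun y _ => Set.mem_iUnion.2 ⟨y, (hc y).1⟩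
  have hcov : ∀ x : B.P, ∃ y ∈ t, x ∈ Set.range (c y).χ := fun x => by
    obtain ⟨y, hy, hxy⟩ := Set.mem_iUnion₂.1 (ht (Set.mem_univ (B.π x)))
    refine ⟨y, hy, ?_⟩
    have : x ∈ (c y).χ.opensRange := by
      rw [(c y).opensRange_χ, Scheme.Opens.opensRange_ι]
      exact hxy
    exact this
  refine ⟨?_⟩
  have hu : (Set.univ : Set B.P) = ⋃ y ∈ t, Set.range (c y).χ :=
    Set.eq_univ_of_forall (fun x => by
      obtain ⟨y, hy, hx⟩ := hcov x
      exact Set.mem_iUnion₂.2 ⟨y, hy, hx⟩) |>.symm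
  rw [hu]
  refine t.isCompact_biUnion fun y _ => ?_
  haveI : CompactSpace (KRR.PY n (c y).S) := QuasiCompact.compactSpace_of_compactSpace (KRR.pr n (c y).S)
  exact isCompact_range (c y).χ.continuous

/-- The projective bundle of a bundle of constant positive rank. -/
theorem exists_bundle_split [CompactSpace X] {r : ℕ} {E : X.Modules} (hE : FlatMod.IsFinLocFreeOfRank (r + 1) E) :
    ∃ (P : Scheme.{u}) (π : P ⟶ X) (K L : P.Modules), CompactSpace P ∧ Function.Injective (pullK π) ∧
      FlatMod.IsFinLocFreeOfRank r K ∧ Line L ∧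
      pullK π (KRR.cl X E) = KRR.cl P K + KRR.cl P L := by
  have hlf : FlatMod.IsFinLocFree E := KRR40.vb_of_rank hE
  have hq : Coh.IsQCoh E := Props58.LocFree.isQuasicoherent_of_isFinLocFree hlf
  obtain ⟨𝒮, j, hj, P, p, chart, hP, O, lam, hO⟩ := EGAProj74.exists_projBundle hq
  obtain ⟨φ, hφ⟩ := EGAProj74.exists_canonical hq hj hO hP
  have hinv : PicF.IsInvertible O :=
    EGAProj74.isInvertible_of_isGenDegOne hO (EGAProj74.isGenDegOne_grSym hq hj)
  have hG : Grass.IsGrass p E 1 O
      (((Scheme.Modules.pullbackPushforwardAdjunction p).homEquiv E O).symm φ) :=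
    { rank := Mero90.isFinLocFreeOfRank_of_isInvertible hinv
      epi := EGAProj74.epi_canonical hq hj hO hφ
      univ := fun T g L hL s hs => by
        haveI := hs
        have h := EGAProj74.existsUnique_of_epi hq hj hP hO hφ g L (Cyc90.Dev.isInvertible_of_rank_one hL) s
        simpa only [Grass.quotBC, Category.assoc] using h }
  obtain ⟨Oi, hOi⟩ := An92.InvMod.exists_inverse hinv
  have hPB := hG.isProjBundle
  let τ := tautOfProjBundle hE hPB hOi.2
  haveI := hPB.epi
  let q := ((Scheme.Modules.pullbackPushforwardAdjunction p).homEquiv E O).symm φ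
  have hS : (ShortComplex.mk (kernel.ι q) q (kernel.condition q)).ShortExact :=
    { exact := ShortComplex.exact_of_f_is_kernel _ (kernelIsKernel q) }
  have hπE := finLocFreeOfRank_pullback p hE
  have hK := Cyc90.Dev.isFinLocFreeOfRank_kernel hπE hinv q
  refine ⟨P, p, kernel q, O, compactSpace_bundle (ofProjBundle hE hPB hOi.2), ?_, hK,
    line_of_rank_one hG.rank, ?_⟩
  · have h : pullK p = PL (ofProjBundle hE hPB hOi.2) := KRR40.hom_ext_cl fun N hN => by
      rw [pullK_cl p hN]
      exact (PL_cl (B := ofProjBundle hE hPB hOi.2) hN).symm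
    rw [h]
    exact τ.PL_injective
  · rw [pullK_cl p hlf]
    exact K0Res3.cls_add (P := KRR.vbP P) _ hS (KRR40.vb_of_rank hK) (KRR40.vb_of_rank hπE)
      (KRR40.vb_of_rank hG.rank)

/-- A bundle of constant rank becomes a sum of lines. -/
theorem exists_split_rank : ∀ (r : ℕ) (X : Scheme.{u}) [CompactSpace X] (E : X.Modules),
    FlatMod.IsFinLocFreeOfRank r E → ∃ (P : Scheme.{u}) (π : P ⟶ X), CompactSpace P ∧
      Function.Injective (pullK π) ∧ pullK π (KRR.cl X E) ∈ LC P
  | 0, X, hX, E, hE => ⟨X, 𝟙 X, hX, fun a b h => by rwa [pullK_id, pullK_id] at h, by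
      rw [pullK_id, show (KRR.cl X E : SGA6.Kvb X) = 0 from ExtFilt.clg_isZero (KRR40.isZero_of_rank_zero hE)]
      exact zero_mem _⟩
  | r + 1, X, _, E, hE => by
    obtain ⟨P, π, K, L, hP, hinj, hK, hL, heq⟩ := exists_bundle_split hE
    obtain ⟨Q, ρ, hQ, hinj', hmem⟩ := exists_split_rank r P K hK
    refine ⟨Q, ρ ≫ π, hQ, fun a b h => hinj (hinj' ?_), ?_⟩
    · rwa [pullK_comp, pullK_comp]
    · rw [← pullK_comp, heq, map_add]
      exact add_mem hmem (pullK_mem_LC ρ (cl_mem_LC hL))

/-- The structure sheaf of an open and closed subset. -/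
def onClopen (W : X.Opens) : X.Modules := (Scheme.Modules.pushforward W.ι).obj (Coh.structureModule (W : Scheme.{u}))

theorem onClopen_spec {W : X.Opens} (hW : IsClosed (W : Set X)) :
    FlatMod.IsFinLocFree (onClopen W) ∧ (∀ x ∈ W, rkAt x (onClopen W) = 1) ∧
      ∀ x, x ∉ W → rkAt x (onClopen W) = 0 := by
  let V : X.Opens := ⟨(W : Set X)ᶜ, hW.isOpen_compl⟩
  have hW1 : ∀ x ∈ W, ∃ U : X.Opens, x ∈ U ∧ Nonempty ((onClopen W).restrict U.ι ≅ FlatMod.freeMod (U : Scheme.{u}) 1) := by
    intro x hx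
    obtain ⟨U, hxU, ⟨i⟩⟩ :=
      Mero90.isFinLocFreeOfRank_of_isInvertible (EGA73.isInvertible_structureModule (X := (W : Scheme.{u}))) ⟨x, hx⟩
    refine ⟨W, hx, ⟨(Scheme.Modules.restrictFunctorAdjCounitIso W.ι).app (Coh.structureModule (W : Scheme.{u})) ≪≫
      (coproductUniqueIso fun _ : Fin 1 => Coh.structureModule (W : Scheme.{u})).symm⟩⟩
  have hW0 : IsZero ((onClopen W).restrict V.ι) := by
    rw [IsZero.iff_id_eq_zero]
    refine Scheme.Modules.hom_ext _ _ fun U => ?_
    have hbot : W.ι ⁻¹ᵁ (V.ι ''ᵁ U) = ⊥ := by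
      refine eq_bot_iff.2 fun z hz => ?_
      obtain ⟨y, -, hy⟩ := hz
      exact absurd (hy ▸ z.2 : (V.ι y : X) ∈ W) y.2
    haveI : Subsingleton Γ(Coh.structureModule (W : Scheme.{u}), W.ι ⁻¹ᵁ (V.ι ''ᵁ U)) :=
      ⟨fun a b => TopCat.Sheaf.eq_of_locally_eq' ⟨_, (Coh.structureModule (W : Scheme.{u})).isSheaf⟩
        (fun i : PEmpty.{u + 1} => i.elim) _ (fun i => i.elim) (by rw [hbot]; exact bot_le) a b fun i => i.elim⟩
    haveI : Subsingleton Γ((onClopen W).restrict V.ι, U) :=
      inferInstanceAs (Subsingleton Γ(Coh.structureModule (W : Scheme.{u}), W.ι ⁻¹ᵁ (V.ι ''ᵁ U)))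
    ext s
    exact Subsingleton.elim (α := Γ((onClopen W).restrict V.ι, U)) _ _
  refine ⟨fun x => ?_, fun x hx => ?_, fun x hx => ?_⟩
  · by_cases hx : x ∈ W
    · obtain ⟨U, hU, h⟩ := hW1 x hx
      exact ⟨U, 1, hU, h⟩
    · exact ⟨V, 0, hx, ⟨hW0.iso PerfFib24.isZero_free_zero⟩⟩
  · obtain ⟨U, hU, ⟨i⟩⟩ := hW1 x hx
    exact rkAt_of_iso i hU
  · exact rkAt_of_iso (U := V) (k := 0) (hW0.iso PerfFib24.isZero_free_zero) hx

theorem isLocallyConstant_rkAt {E : X.Modules} (hE : FlatMod.IsFinLocFree E) :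
    IsLocallyConstant fun x => rkAt x E := by
  choose U k hxU i using hE
  exact IsLocallyConstant.iff_eventually_eq _ |>.2 fun x =>
    Filter.eventually_of_mem ((U x).2.mem_nhds (hxU x)) fun y hy => by
      rw [rkAt_of_iso (i x).some hy, rkAt_of_iso (i x).some (hxU x)]

/-- A bundle is completed to a bundle of constant rank by lines. -/
theorem exists_completion [CompactSpace X] {E : X.Modules} (hE : FlatMod.IsFinLocFree E) :
    ∃ (m : ℕ) (E' : X.Modules), FlatMod.IsFinLocFreeOfRank m E' ∧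
      (KRR.cl X E : SGA6.Kvb X) - KRR.cl X E' ∈ LC X := by
  have hlc := isLocallyConstant_rkAt hE
  obtain ⟨m, hm⟩ := hlc.range_finite.bddAbove
  have step : ∀ j ≤ m, ∃ F : X.Modules, FlatMod.IsFinLocFree F ∧
      (∀ x, rkAt x F = max (rkAt x E) j) ∧ (KRR.cl X E : SGA6.Kvb X) - KRR.cl X F ∈ LC X := by
    intro j hj
    induction j with
    | zero => exact ⟨E, hE, fun x => (max_eq_left (Nat.zero_le _)).symm, by rw [sub_self]; exact zero_mem _⟩
    | succ j ih =>
      obtain ⟨F, hF, hr, hmem⟩ := ih (Nat.le_of_succ_le hj)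
      let W : X.Opens := ⟨(fun x => rkAt x E) ⁻¹' {k | k ≤ j}, hlc _⟩
      have hWc : IsClosed (W : Set X) := ⟨hlc {k | k ≤ j}ᶜ⟩
      obtain ⟨hv, h1, h0⟩ := onClopen_spec hWc
      have hline : Line (onClopen W) := ⟨hv, fun x => by
        by_cases hx : x ∈ W
        · exact (h1 x hx).le
        · exact (h0 x hx).le.trans (Nat.zero_le _)⟩
      let S : ShortComplex X.Modules :=
        ShortComplex.mk (biprod.inl : F ⟶ F ⊞ onClopen W) biprod.snd biprod.inl_snd
      have hS : S.ShortExact := (ShortComplex.Splitting.ofHasBinaryBiproduct F _).shortExact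
      have hFv : FlatMod.IsFinLocFree (F ⊞ onClopen W) := DCX42.isFinLocFree_biprod hF hv
      refine ⟨F ⊞ onClopen W, hFv, fun x => ?_, ?_⟩
      · have h : rkAt x S.X₂ = rkAt x F + rkAt x (onClopen W) := rkAt_add x S hS hF hv
        show rkAt x S.X₂ = _
        rw [h, hr x]
        by_cases hx : x ∈ W
        · rw [h1 x hx]
          have hx' : rkAt x E ≤ j := hx
          omega
        · rw [h0 x hx]
          have hx' : ¬ rkAt x E ≤ j := hx
          omega
      · have hadd : (KRR.cl X (F ⊞ onClopen W) : SGA6.Kvb X) = KRR.cl X F + KRR.cl X (onClopen W) :=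
          K0Res3.cls_add (P := KRR.vbP X) S hS hF hFv hv
        rw [hadd, ← sub_sub]
        exact sub_mem hmem (cl_mem_LC hline)
  obtain ⟨F, hF, hr, hmem⟩ := step m le_rfl
  refine ⟨m, F, ofRank_of_rkAt hF fun x => ?_, hmem⟩
  rw [hr x]
  exact max_eq_right (hm ⟨x, rfl⟩)

/-- Any two classes become combinations of lines. -/
theorem exists_split (x : SGA6.Kvb X) : ∀ (T : Scheme.{u}) [CompactSpace T] (g : T ⟶ X),
    ∃ (P : Scheme.{u}) (π : P ⟶ T), CompactSpace P ∧ Function.Injective (pullK π) ∧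
      pullK π (pullK g x) ∈ LC P := by
  let Sp : AddSubgroup (SGA6.Kvb X) :=
    { carrier := {x | ∀ (T : Scheme.{u}) [CompactSpace T] (g : T ⟶ X), ∃ (P : Scheme.{u}) (π : P ⟶ T),
        CompactSpace P ∧ Function.Injective (pullK π) ∧ pullK π (pullK g x) ∈ LC P}
      zero_mem' := fun T hT g => ⟨T, 𝟙 T, hT, fun a b h => by rwa [pullK_id, pullK_id] at h, by
        rw [map_zero, map_zero]; exact zero_mem _⟩
      add_mem' := fun {a b} ha hb T _ g => by
        obtain ⟨P, π, hP, hinj, hmem⟩ := ha T g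
        haveI := hP
        obtain ⟨Q, ρ, hQ, hinj', hmem'⟩ := hb P (π ≫ g)
        refine ⟨Q, ρ ≫ π, hQ, fun c d h => hinj (hinj' ?_), ?_⟩
        · rwa [pullK_comp, pullK_comp]
        · rw [← pullK_comp, map_add, map_add, map_add]
          refine add_mem (pullK_mem_LC ρ hmem) ?_
          rwa [pullK_comp π g]
      neg_mem' := fun {a} ha T _ g => by
        obtain ⟨P, π, hP, hinj, hmem⟩ := ha T g
        exact ⟨P, π, hP, hinj, by rw [map_neg, map_neg]; exact neg_mem hmem⟩ }
  have hall : ∀ z, z ∈ Sp := fun z => by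
    have := DFunLike.congr_fun (KRR40.hom_ext_cl (g := QuotientAddGroup.mk' Sp) (g' := 0)
      fun E hE => (QuotientAddGroup.eq_zero_iff _).2 fun T hT g => ?_) z
    · exact (QuotientAddGroup.eq_zero_iff _).1 this
    · rw [pullK_cl g hE]
      obtain ⟨m, E', hE', hmem⟩ := exists_completion (vb_pullback g hE)
      obtain ⟨P, π, hP, hinj, hmem'⟩ := exists_split_rank m T E' hE'
      refine ⟨P, π, hP, hinj, ?_⟩
      have := add_mem (pullK_mem_LC π hmem) hmem'
      rwa [map_sub, sub_add_cancel] at this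
  exact hall x

end Groth.Agent.PB46.SplitK
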