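import Groth.Agent.KRR40.RelKoszul
import Groth.Agent.Amp73.PullTensor
import Groth.Agent.TwTens96.Basic
import Groth.Prelude.Def_ClSub2

/-!
Integral powers of an invertible module with a given inverse, and their pull-backs to projective space.
-/

set_option autoImplicit false
set_option linter.style.haveILetI false
set_option backward.isDefEq.respectTransparency.types false
set_option maxSynthPendingDepth 6

noncomputable section

universe u

open CategoryTheory CategoryTheory.Limits AlgebraicGeometry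

namespace Groth.Agent.PB46

open EGA73 KRR40

variable {X : Scheme.{u}}

local notation:70 M " ⊗ₘ " N:71 => CohB1.tensorMod M N

theorem nonempty_exchange (A B C D : X.Modules) :
    Nonempty ((A ⊗ₘ B) ⊗ₘ (C ⊗ₘ D) ≅ (A ⊗ₘ C) ⊗ₘ (B ⊗ₘ D)) :=
  ⟨tensAssoc' A B (C ⊗ₘ D) ≪≫
    tensIso (Iso.refl A) ((tensAssoc' B C D).symm ≪≫
      tensIso (tensComm B C) (Iso.refl D) ≪≫ tensAssoc' C B D) ≪≫
    (tensAssoc' A C (B ⊗ₘ D)).symm⟩

theorem nonempty_pow_congr {E E' : X.Modules} (e : E ≅ E') :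
    ∀ n : ℕ, Nonempty (CohB1.tensorPow E n ≅ CohB1.tensorPow E' n)
  | 0 => ⟨Iso.refl _⟩
  | n + 1 => (nonempty_pow_congr e n).map fun i => tensIso i e

theorem nonempty_pow_add (L : X.Modules) (a : ℕ) : ∀ b : ℕ,
    Nonempty (CohB1.tensorPow L (a + b) ≅ CohB1.tensorPow L a ⊗ₘ CohB1.tensorPow L b)
  | 0 => ⟨(tensUnitRight _).symm⟩
  | b + 1 => (nonempty_pow_add L a b).map fun i => tensIso i (Iso.refl L) ≪≫ tensAssoc' _ _ _

/-- The integral powers of `L`, formed with the inverse `L'`. -/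
def Oz (L L' : X.Modules) (d : ℤ) : X.Modules :=
  CohB1.tensorPow L d.toNat ⊗ₘ CohB1.tensorPow L' (-d).toNat

/-- `F(d)`. -/
def twP (L L' : X.Modules) (d : ℤ) (F : X.Modules) : X.Modules :=
  ((DCoh.tensorBi (X := X)).obj (Oz L L' d)).obj F

variable {L L' : X.Modules}

theorem nonempty_pad (h : ClSub.IsInverseOf L' L) (a b : ℕ) : ∀ k : ℕ,
    Nonempty (CohB1.tensorPow L a ⊗ₘ CohB1.tensorPow L' b ≅
      CohB1.tensorPow L (a + k) ⊗ₘ CohB1.tensorPow L' (b + k))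
  | 0 => ⟨Iso.refl _⟩
  | k + 1 => by
    obtain ⟨i⟩ := nonempty_pad h a b k
    obtain ⟨h⟩ := h
    obtain ⟨x⟩ := nonempty_exchange (CohB1.tensorPow L (a + k)) L (CohB1.tensorPow L' (b + k)) L'
    exact ⟨i ≪≫ (tensUnitRight _).symm ≪≫ tensIso (Iso.refl _) (h.symm ≪≫ tensComm L' L) ≪≫ x.symm⟩

theorem nonempty_oz (h : ClSub.IsInverseOf L' L) (a b : ℕ) {d : ℤ} (hd : (a : ℤ) - b = d) :
    Nonempty (CohB1.tensorPow L a ⊗ₘ CohB1.tensorPow L' b ≅ Oz L L' d) := by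
  obtain ⟨i⟩ := nonempty_pad h d.toNat (-d).toNat (a - d.toNat)
  rw [show d.toNat + (a - d.toNat) = a by omega, show (-d).toNat + (a - d.toNat) = b by omega] at i
  exact ⟨i.symm⟩

theorem nonempty_oz_add (h : ClSub.IsInverseOf L' L) (a b : ℤ) :
    Nonempty (Oz L L' a ⊗ₘ Oz L L' b ≅ Oz L L' (a + b)) := by
  obtain ⟨x⟩ := nonempty_exchange (CohB1.tensorPow L a.toNat) (CohB1.tensorPow L' (-a).toNat)
    (CohB1.tensorPow L b.toNat) (CohB1.tensorPow L' (-b).toNat)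
  obtain ⟨p⟩ := nonempty_pow_add L a.toNat b.toNat
  obtain ⟨p'⟩ := nonempty_pow_add L' (-a).toNat (-b).toNat
  obtain ⟨z⟩ := nonempty_oz h (a.toNat + b.toNat) ((-a).toNat + (-b).toNat) (d := a + b) (by omega)
  exact ⟨x ≪≫ tensIso p.symm p'.symm ≪≫ z⟩

theorem nonempty_oz_nat (L L' : X.Modules) (i : ℕ) :
    Nonempty (Oz L L' (i : ℤ) ≅ CohB1.tensorPow L i) := by
  rw [Oz, show ((i : ℤ)).toNat = i by omega, show (-(i : ℤ)).toNat = 0 by omega]
  exact ⟨tensUnitRight _⟩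

theorem nonempty_oz_neg (L L' : X.Modules) (i : ℕ) :
    Nonempty (Oz L L' (-(i : ℤ)) ≅ CohB1.tensorPow L' i) := by
  rw [Oz, show (-(i : ℤ)).toNat = 0 by omega, show (-(-(i : ℤ))).toNat = i by omega]
  exact ⟨tensUnitLeft _⟩

theorem nonempty_twP_zero (L L' F : X.Modules) : Nonempty (twP L L' 0 F ≅ F) :=
  ⟨tensIso (tensUnitLeft _) (Iso.refl F) ≪≫ tensUnitLeft F⟩

theorem nonempty_twP_twP (h : ClSub.IsInverseOf L' L) (a b : ℤ) (F : X.Modules) :
    Nonempty (twP L L' a (twP L L' b F) ≅ twP L L' (a + b) F) := by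
  obtain ⟨e⟩ := nonempty_oz_add h a b
  exact ⟨(tensAssoc' _ _ _).symm ≪≫ tensIso e (Iso.refl F)⟩

section Chart

variable {n : ℕ} {T : Scheme.{u}} (χ : KRR.PY n T ⟶ X)

theorem nonempty_pull_pow (hχ : Nonempty ((Scheme.Modules.pullback χ).obj L ≅ Twist.twistOver n T 1)) :
    ∀ a : ℕ, Nonempty ((Scheme.Modules.pullback χ).obj (CohB1.tensorPow L a) ≅ Twist.twistOver n T a)
  | 0 => by
    obtain ⟨z⟩ := nonempty_twF_zero n T (Coh.structureModule (KRR.PY n T))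
    exact ⟨PicLoc.pullbackStructureIso χ ≪≫ z.symm ≪≫ tensUnitRight _⟩
  | a + 1 => by
    obtain ⟨i⟩ := nonempty_pull_pow hχ a
    obtain ⟨j⟩ := hχ
    obtain ⟨s⟩ := nonempty_twistOver_add n T (a : ℤ) 1
    exact ⟨TwTens96.pullTensIso χ _ L ≪≫ tensIso i j ≪≫ s⟩

theorem nonempty_pull_inv (h : ClSub.IsInverseOf L' L)
    (hχ : Nonempty ((Scheme.Modules.pullback χ).obj L ≅ Twist.twistOver n T 1)) :
    Nonempty ((Scheme.Modules.pullback χ).obj L' ≅ Twist.twistOver n T (-1)) := by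
  obtain ⟨h⟩ := h
  obtain ⟨j⟩ := hχ
  obtain ⟨z⟩ := nonempty_pull_pow (L := L) χ ⟨j⟩ 0
  obtain ⟨s⟩ := nonempty_twistOver_add n T 1 (-1)
  let ψ := Scheme.Modules.pullback χ
  let O0 := Twist.twistOver n T 0
  let e0 : O0 ≅ Coh.structureModule (KRR.PY n T) := z.symm ≪≫ PicLoc.pullbackStructureIso χ
  exact ⟨(tensUnitRight _).symm ≪≫ tensIso (Iso.refl _) (e0.symm ≪≫ s.symm ≪≫ tensIso j.symm (Iso.refl _)) ≪≫
    (tensAssoc' _ _ _).symm ≪≫
    tensIso ((TwTens96.pullTensIso χ L' L).symm ≪≫ ψ.mapIso h ≪≫ PicLoc.pullbackStructureIso χ) (Iso.refl _) ≪≫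
    tensUnitLeft _⟩

theorem nonempty_pull_inv_pow (h : ClSub.IsInverseOf L' L)
    (hχ : Nonempty ((Scheme.Modules.pullback χ).obj L ≅ Twist.twistOver n T 1)) :
    ∀ a : ℕ, Nonempty ((Scheme.Modules.pullback χ).obj (CohB1.tensorPow L' a) ≅ Twist.twistOver n T (-(a : ℤ)))
  | 0 => nonempty_pull_pow χ hχ 0
  | a + 1 => by
    obtain ⟨i⟩ := nonempty_pull_inv_pow h hχ a
    obtain ⟨j⟩ := nonempty_pull_inv χ h hχ
    obtain ⟨s⟩ := nonempty_twistOver_add n T (-(a : ℤ)) (-1)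
    exact ⟨TwTens96.pullTensIso χ _ L' ≪≫ tensIso i j ≪≫ s ≪≫ eqToIso (congrArg _ (by push_cast; ring))⟩

/-- Twists restrict to twists. -/
theorem nonempty_pull_twP (h : ClSub.IsInverseOf L' L)
    (hχ : Nonempty ((Scheme.Modules.pullback χ).obj L ≅ Twist.twistOver n T 1)) (d : ℤ) (F : X.Modules) :
    Nonempty ((Scheme.Modules.pullback χ).obj (twP L L' d F) ≅
      KRR.twF n T d ((Scheme.Modules.pullback χ).obj F)) := by
  obtain ⟨i⟩ := nonempty_pull_pow χ hχ d.toNat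
  obtain ⟨j⟩ := nonempty_pull_inv_pow χ h hχ (-d).toNat
  obtain ⟨s⟩ := nonempty_twistOver_add n T (d.toNat : ℤ) (-(((-d).toNat : ℕ) : ℤ))
  exact ⟨TwTens96.pullTensIso χ _ F ≪≫ tensIso (TwTens96.pullTensIso χ _ _ ≪≫ tensIso i j ≪≫ s ≪≫
    eqToIso (congrArg _ (by omega))) (Iso.refl _)⟩

end Chart

end Groth.Agent.PB46
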